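import Cfsg.Agent.Lib.Recog.AmalgamGLTwoThree.Gens
import Cfsg.Agent.Lib.Recog.SporBound.AgTwoThreeL.Valid
import Cfsg.Agent.Lib.Recog.SporBound.AgTwoThreeM.Valid
import Cfsg.Agent.Lib.Recog.SporBound.AgTwoThreeX000.Valid
import Cfsg.Agent.Lib.Recog.SporBound.AgTwoThreeX001.Valid
import Cfsg.Agent.Lib.Recog.SporBound.AgTwoThreeX010.Valid
import Cfsg.Agent.Lib.Recog.SporBound.AgTwoThreeX011.Valid
import Cfsg.Agent.Lib.Recog.SporBound.AgTwoThreeX100.Valid
import Cfsg.Agent.Lib.Recog.SporBound.AgTwoThreeX101.Valid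
import Cfsg.Agent.Lib.Recog.SporBound.AgTwoThreeX110.Valid
import Cfsg.Agent.Lib.Recog.SporBound.AgTwoThreeX111.Valid
import Cfsg.Agent.Lib.Recog.SporBound.AgTwoThreeX200.Valid
import Cfsg.Agent.Lib.Recog.SporBound.AgTwoThreeX201.Valid
import Cfsg.Agent.Lib.Recog.SporBound.AgTwoThreeX210.Valid
import Cfsg.Agent.Lib.Recog.SporBound.AgTwoThreeX211.Valid

/-!
# The amalgam with one extra relator

With the relator `u * u^za * u^(za^2) = P^e` the group has at most `13` or `220` cosets of the first member, and
with the relators of the branch `PSL(2,7)` it collapses.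
-/

set_option autoImplicit false

namespace CfsgLib.Recog.AmalgamGLTwoThree

open CfsgLib.Recog.SporBound

namespace Gens

variable {G : Type*} [Group G] (g : Gens G)

/-- The word of `uu n`. -/
def uWord (n : ℕ) : List ℕ :=
  [1, 4] ++ ((List.replicate n [1, 2]).flatten ++ [5, 4, 0, 5, 4, 5] ++ (List.replicate n [2, 1]).flatten)

/-- The tail of a branch: a power of `P`. -/
def tail (e : Bool) : List ℕ := if e then [0] else []

/-- The corresponding element. -/
def tailVal (e : Bool) : G := if e then g.P else 1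

/-- The word of the fixed-point-free relator. -/
def tripleWord (e : Bool) : List ℕ :=
  uWord 0 ++ ([1, 2] ++ uWord 0 ++ [2, 1]) ++ ([1, 2, 1, 2] ++ uWord 0 ++ [2, 1, 2, 1]) ++ tail e

/-- The word of a power relator. -/
def powWord (i n : ℕ) (e : Bool) : List ℕ := (List.replicate n (uWord i)).flatten ++ tail e

/-- The fixed-point-free relator. -/
def Triple (e : Bool) : Prop :=
  g.uu 0 * (g.za * g.uu 0 * (g.X * g.Q)) * (g.za ^ 2 * g.uu 0 * (g.X * g.Q) ^ 2) * g.tailVal e = 1

/-- A power relator. -/
def Pow (i n : ℕ) (e : Bool) : Prop := g.uu i ^ n * g.tailVal e = 1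

theorem val_append (v w : List ℕ) : g.val (v ++ w) = g.val v * g.val w := by
  simp [val, List.map_append, List.prod_append]

theorem val_replicate (n : ℕ) (v : List ℕ) : g.val (List.replicate n v).flatten = g.val v ^ n := by
  induction n with
  | zero => simp [val]
  | succ n ih => rw [List.replicate_succ, List.flatten_cons, val_append, ih, pow_succ']

theorem val_two (x y : ℕ) : g.val [x, y] = g.letter x * g.letter y := by simp [val]

theorem val_za : g.val [1, 2] = g.za := val_two g 1 2

theorem val_zb : g.val [2, 1] = g.X * g.Q := val_two g 2 1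

theorem val_uWord (n : ℕ) : g.val (uWord n) = g.uu n := by
  rw [uWord, val_append, val_append, val_append, val_replicate, val_replicate, val_za, val_zb, uu]
  simp [val, letter, ii, kk, mul_assoc]

theorem val_tail (e : Bool) : g.val (tail e) = g.tailVal e := by
  cases e <;> simp [val, tail, tailVal, letter]

theorem val_tripleWord (e : Bool) : g.val (tripleWord e) =
    g.uu 0 * (g.za * g.uu 0 * (g.X * g.Q)) * (g.za ^ 2 * g.uu 0 * (g.X * g.Q) ^ 2) * g.tailVal e := by
  rw [tripleWord, show ([1, 2, 1, 2] : List ℕ) = [1, 2] ++ [1, 2] from rfl,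
    show ([2, 1, 2, 1] : List ℕ) = [2, 1] ++ [2, 1] from rfl]
  simp only [val_append, val_uWord, val_tail, val_za, val_zb, pow_two]

theorem val_powWord (i n : ℕ) (e : Bool) : g.val (powWord i n e) = g.uu i ^ n * g.tailVal e := by
  rw [powWord, val_append, val_replicate, val_uWord, val_tail]

variable {g}

/-- Without the twist there are at most `13` cosets. -/
theorem le_thirteen (h : g.Rel) (ht : g.Triple false) : Finite g.genAll ∧ Nat.card g.genAll ≤ 13 * 432 :=
  genAll_le h AgTwoThreeL.ok rfl rfl rfl (E := [tripleWord false])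
    (fun w hw => by rw [List.mem_singleton] at hw; subst hw; exact (val_tripleWord g false).trans ht)
    (by decide +kernel)

/-- With the twist there are at most `220` cosets. -/
theorem le_twoTwenty (h : g.Rel) (ht : g.Triple true) : Finite g.genAll ∧ Nat.card g.genAll ≤ 220 * 432 :=
  genAll_le h AgTwoThreeM.ok rfl rfl rfl (E := [tripleWord true])
    (fun w hw => by rw [List.mem_singleton] at hw; subst hw; exact (val_tripleWord g true).trans ht)
    (by decide +kernel)

theorem le_collapse (h : g.Rel) {C : Cert} (hC : C.OK) (hn : C.n = 1) (hk : C.kl = [0, 1, 2, 3, 4, 5])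
    (hsub : C.subs = [[0], [1], [2], [3], [4]]) {i j m n : ℕ} {e e' : Bool} (h1 : g.Pow i m e) (h2 : g.Pow j n e')
    (hrel : C.rels.all (fun w => (baseWords ++ [powWord i m e, powWord j n e']).contains w) = true) :
    Finite g.genAll ∧ Nat.card g.genAll ≤ 1 * 432 :=
  genAll_le h hC hn hk hsub (E := [powWord i m e, powWord j n e'])
    (fun w hw => by
      rw [List.mem_cons, List.mem_singleton] at hw
      rcases hw with rfl | rfl
      · exact (val_powWord g i m e).trans h1
      · exact (val_powWord g j n e').trans h2)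
    hrel

theorem collapse_zero (h : g.Rel) (e e' : Bool) (h1 : g.Pow 0 4 e) (h2 : g.Pow 1 3 e') :
    Finite g.genAll ∧ Nat.card g.genAll ≤ 432 := by
  cases e <;> cases e'
  exacts [le_collapse h AgTwoThreeX000.ok rfl rfl rfl h1 h2 (by decide +kernel),
    le_collapse h AgTwoThreeX001.ok rfl rfl rfl h1 h2 (by decide +kernel),
    le_collapse h AgTwoThreeX010.ok rfl rfl rfl h1 h2 (by decide +kernel),
    le_collapse h AgTwoThreeX011.ok rfl rfl rfl h1 h2 (by decide +kernel)]

theorem collapse_one (h : g.Rel) (e e' : Bool) (h1 : g.Pow 1 4 e) (h2 : g.Pow 2 3 e') :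
    Finite g.genAll ∧ Nat.card g.genAll ≤ 432 := by
  cases e <;> cases e'
  exacts [le_collapse h AgTwoThreeX100.ok rfl rfl rfl h1 h2 (by decide +kernel),
    le_collapse h AgTwoThreeX101.ok rfl rfl rfl h1 h2 (by decide +kernel),
    le_collapse h AgTwoThreeX110.ok rfl rfl rfl h1 h2 (by decide +kernel),
    le_collapse h AgTwoThreeX111.ok rfl rfl rfl h1 h2 (by decide +kernel)]

theorem collapse_two (h : g.Rel) (e e' : Bool) (h1 : g.Pow 1 3 e) (h2 : g.Pow 2 4 e') :
    Finite g.genAll ∧ Nat.card g.genAll ≤ 432 := by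
  cases e <;> cases e'
  exacts [le_collapse h AgTwoThreeX200.ok rfl rfl rfl h1 h2 (by decide +kernel),
    le_collapse h AgTwoThreeX201.ok rfl rfl rfl h1 h2 (by decide +kernel),
    le_collapse h AgTwoThreeX210.ok rfl rfl rfl h1 h2 (by decide +kernel),
    le_collapse h AgTwoThreeX211.ok rfl rfl rfl h1 h2 (by decide +kernel)]

end Gens

end CfsgLib.Recog.AmalgamGLTwoThree
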