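import Cfsg.Agent.Lib.Recog.AmalgamGLTwoThree.Checks
import Cfsg.Agent.Lib.Recog.SelfCentThree.Main

/-!
# The three possible quotients
-/

set_option autoImplicit false

namespace CfsgLib.Recog.AmalgamGLTwoThree

variable {W : Type*} [Group W]

theorem Turn.map {y s : W} {Q : Type*} [Group Q] (h : Turn y s) (f : W →* Q) (hy : f y ≠ 1) :
    Turn (f y) (f s) :=
  ⟨by rw [← map_mul, ← map_mul, h.1, map_one], hy, by rw [← map_mul, h.2.2.1, map_one],
    by rw [← map_mul, ← map_mul, h.2.2.2, map_inv]⟩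

theorem Four.map {y s i : W} {Q : Type*} [Group Q] (h : Four y s i) (f : W →* Q) : Four (f y) (f s) (f i) := by
  refine ⟨by rw [← map_mul, h.1, map_one], ?_, by rw [← map_mul, h.2.2, map_mul]⟩
  have := congrArg f h.2.1
  simpa [map_mul] using this

/-- The matrix entries of an element of `SL(2,7)`. -/
def ent (a : Matrix.SpecialLinearGroup (Fin 2) (ZMod 7)) : Ent :=
  ((a.1 0 0).val, (a.1 0 1).val, (a.1 1 0).val, (a.1 1 1).val)

theorem ent_mul (a b : Matrix.SpecialLinearGroup (Fin 2) (ZMod 7)) : ent (a * b) = emul (ent a) (ent b) := by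
  simp only [ent, emul, Matrix.SpecialLinearGroup.coe_mul, Matrix.mul_apply, Fin.sum_univ_two, ZMod.val_add,
    ZMod.val_mul, ← Nat.add_mod]

theorem ent_injective : Function.Injective ent := by
  intro a b h
  simp only [ent, Prod.mk.injEq] at h
  obtain ⟨h1, h2, h3, h4⟩ := h
  ext i j
  fin_cases i <;> fin_cases j
  exacts [ZMod.val_injective 7 h1, ZMod.val_injective 7 h2, ZMod.val_injective 7 h3, ZMod.val_injective 7 h4]

theorem ebeq_iff {x y : Ent} : ebeq x y = true ↔ x = y := by
  simp [ebeq, Prod.ext_iff, and_assoc]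

theorem ent_mem (a : Matrix.SpecialLinearGroup (Fin 2) (ZMod 7)) : ent a ∈ eall := by
  have hd := a.2
  rw [Matrix.det_fin_two] at hd
  have key : ∀ p q r s : ZMod 7, p * s - q * r = 1 → (p.val * s.val + 6 * (q.val * r.val)) % 7 = 1 := by
    decide +kernel
  simp only [ent, eall, List.mem_flatMap, List.mem_filterMap, List.mem_range]
  exact ⟨_, ZMod.val_lt _, _, ZMod.val_lt _, _, ZMod.val_lt _, _, ZMod.val_lt _,
    by rw [if_pos (key _ _ _ _ hd)]⟩

/-- The projection to `PSL(2,7)`. -/
def proj : Matrix.SpecialLinearGroup (Fin 2) (ZMod 7) →* Matrix.ProjectiveSpecialLinearGroup (Fin 2) (ZMod 7) :=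
  QuotientGroup.mk' _

theorem eone_iff (a : Matrix.SpecialLinearGroup (Fin 2) (ZMod 7)) : eone (ent a) = true ↔ proj a = 1 := by
  have hone : ent 1 = (1, 0, 0, 1) := by decide +kernel
  have hneg : ∀ r : ZMod 7, r ^ 2 = 1 → r = 1 ∨ r = 6 := by decide +kernel
  rw [proj, QuotientGroup.mk'_apply, QuotientGroup.eq_one_iff, Matrix.SpecialLinearGroup.mem_center_iff]
  simp only [eone, Bool.or_eq_true, ebeq_iff, Fintype.card_fin]
  constructor
  · intro h
    rcases h with h | h
    · refine ⟨1, one_pow _, ?_⟩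
      rw [← hone] at h
      rw [ent_injective h]
      simp
    · refine ⟨6, by decide, ?_⟩
      simp only [ent, Prod.mk.injEq] at h
      obtain ⟨h1, h2, h3, h4⟩ := h
      ext i j
      fin_cases i <;> fin_cases j <;> apply ZMod.val_injective 7 <;>
        simp [Matrix.scalar_apply, h1, h2, h3, h4] <;> rfl
  · rintro ⟨r, hr, hA⟩
    have e : ∀ i j, a.1 i j = (Matrix.diagonal fun _ : Fin 2 => r) i j := fun i j => by
      rw [← Matrix.scalar_apply, hA]
    rcases hneg r hr with rfl | rfl
    · left; simp [ent, e]; rfl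
    · right; simp [ent, e]; rfl

theorem emul_eone_comm {a b : Matrix.SpecialLinearGroup (Fin 2) (ZMod 7)} (h : proj a = proj b) :
    (ebeq (ent a) (ent b) || ebeq (emul (6, 0, 0, 6) (ent a)) (ent b)) = true := by
  have h1 : eone (ent (b * a⁻¹)) = true := (eone_iff _).2 (by rw [map_mul, map_inv, h, mul_inv_cancel])
  have h2 : emul (ent (b * a⁻¹)) (ent a) = ent b := by rw [← ent_mul, inv_mul_cancel_right]
  simp only [eone, Bool.or_eq_true, ebeq_iff] at h1 ⊢
  rcases h1 with e | e <;> rw [e] at h2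
  · left
    rw [← h2, show ((1, 0, 0, 1) : Ent) = ent 1 by decide +kernel, ← ent_mul, one_mul]
  · exact Or.inr h2

theorem proj_surjective : Function.Surjective proj := QuotientGroup.mk'_surjective _

attribute [local irreducible] proj ent emul eone ebeq

/-- In `PSL(2,7)` two four groups give the triple relation or one of three pairs of orders. -/
theorem psl_cases {y s i k : Matrix.ProjectiveSpecialLinearGroup (Fin 2) (ZMod 7)} (ht : Turn y s)
    (hi : Four y s i) (hk : Four y s k) :
    TripleOne y i k ∨ (shift y i k 0 ^ 4 = 1 ∧ shift y i k 1 ^ 3 = 1) ∨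
      (shift y i k 1 ^ 4 = 1 ∧ shift y i k 2 ^ 3 = 1) ∨ (shift y i k 1 ^ 3 = 1 ∧ shift y i k 2 ^ 4 = 1) := by
  have hsurj := proj_surjective
  obtain ⟨Y, rfl⟩ := hsurj y
  obtain ⟨S, rfl⟩ := hsurj s
  obtain ⟨I, rfl⟩ := hsurj i
  obtain ⟨K, rfl⟩ := hsurj k
  obtain ⟨hy3, hy1, hs2, hsy⟩ := ht
  have hyy : (proj Y)⁻¹ = proj Y * proj Y := inv_eq_of_mul_eq_one_left hy3
  have hyy' : (proj Y * proj Y)⁻¹ = proj Y := inv_eq_of_mul_eq_one_right hy3
  have hinv : proj (Y * Y) = (proj Y)⁻¹ := by rw [map_mul, hyy]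
  have hm := echeck_true
  simp only [echeck, List.all_eq_true] at hm
  have h := hm _ (ent_mem Y)
  have c1 : eone (emul (emul (ent Y) (ent Y)) (ent Y)) = true := by
    rw [← ent_mul, ← ent_mul, eone_iff, map_mul, map_mul]; exact hy3
  have c2 : eone (ent Y) = false := Bool.eq_false_iff.2 fun h => hy1 ((eone_iff _).1 h)
  simp only [c1, c2, Bool.not_false, Bool.and_self, Bool.not_true, Bool.false_or, List.all_eq_true] at h
  have h := h _ (ent_mem S)
  have c3 : eone (emul (ent S) (ent S)) = true := by rw [← ent_mul, eone_iff, map_mul]; exact hs2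
  have c4 : eone (emul (emul (emul (ent S) (ent Y)) (ent S)) (ent Y)) = true := by
    rw [← ent_mul, ← ent_mul, ← ent_mul, eone_iff, map_mul, map_mul, map_mul, hsy, inv_mul_cancel]
  simp only [c3, c4, Bool.and_self, Bool.not_true, Bool.false_or, List.all_eq_true] at h
  have mem : ∀ X, Four (proj Y) (proj S) (proj X) → ent X ∈ eall.filter fun i => eone (emul i i) &&
      eone (etriple (ent Y) i) &&
      (ebeq (emul (ent S) i) (emul i (ent S)) ||
        ebeq (emul (6, 0, 0, 6) (emul (ent S) i)) (emul i (ent S))) := by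
    intro X ⟨hX2, hX3, hXs⟩
    refine List.mem_filter.2 ⟨ent_mem X, ?_⟩
    rw [Bool.and_eq_true, Bool.and_eq_true]
    refine ⟨⟨?_, ?_⟩, ?_⟩
    · rw [← ent_mul, eone_iff, map_mul]; exact hX2
    · simp only [etriple, einv, ← ent_mul, eone_iff, map_mul]
      rw [hyy', hyy] at hX3
      exact hX3
    · rw [← ent_mul, ← ent_mul]
      exact emul_eone_comm (by rw [map_mul, map_mul, hXs])
  have hg := h _ (mem I hi) _ (mem K hk)
  have e0 : shift (proj Y) (proj I) (proj K) 0 = proj (I * K) := by simp [shift, map_mul]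
  have e1 : shift (proj Y) (proj I) (proj K) 1 = proj (I * (Y * K * (Y * Y))) := by
    simp only [shift, pow_one, map_mul, hyy]
  have e2 : shift (proj Y) (proj I) (proj K) 2 = proj (I * (Y * Y * K * Y)) := by
    simp only [shift, pow_two, map_mul]
    rw [show (proj Y)⁻¹ * (proj Y)⁻¹ = (proj Y * proj Y)⁻¹ by rw [_root_.mul_inv_rev], hyy']
  simp only [egood, einv, etriple, ← ent_mul, Bool.or_eq_true, Bool.and_eq_true, eone_iff] at hg
  rw [e0, e1, e2, ← map_pow, ← map_pow, ← map_pow, ← map_pow, ← map_pow]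
  simp only [TripleOne]
  rw [hyy', hyy]
  simp only [pow_succ, pow_zero, one_mul, ← mul_assoc] at hg ⊢
  simpa [map_mul, or_assoc, mul_assoc] using hg

open CfsgLib.Recog.SelfCentThree in
/-- The outcome of the theorem of Feit and Thompson in the presence of two four groups. -/
theorem relation_cases {G : Type*} [Group G] [Finite G] {y s i k : G} (hS : Setup y) (ht : Turn y s)
    (hi : Four y s i) (hk : Four y s k) :
    TripleOne y i k ∨ (shift y i k 0 ^ 4 = 1 ∧ shift y i k 1 ^ 3 = 1) ∨
      (shift y i k 1 ^ 4 = 1 ∧ shift y i k 2 ^ 3 = 1) ∨ (shift y i k 1 ^ 3 = 1 ∧ shift y i k 2 ^ 4 = 1) := by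
  classical
  have fpf : ∀ (N : Subgroup G), N.Normal → ¬ 3 ∣ Nat.card N → i ∈ N → k ∈ N → TripleOne y i k := by
    intro N hN h3 hiN hkN
    haveI := hN
    let φ : N →* N := (MulAut.conjNormal y).toMonoidHom
    have hφ : MonoidHom.FixedPointFree φ := by
      intro n hn
      have h1 : y * (n : G) * y⁻¹ = n := congrArg Subtype.val hn
      have h2 := hS.cent n (mul_inv_eq_iff_eq_mul.1 h1).symm
      have h3' : orderOf (n : G) ∣ Nat.gcd 3 (Nat.card N) := Nat.dvd_gcd
        (by rw [← hS.card_zpowers]; exact Subgroup.orderOf_dvd_natCard _ h2)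
        (Subgroup.orderOf_dvd_natCard _ n.2)
      rw [(Nat.prime_three.coprime_iff_not_dvd.2 h3 : Nat.gcd 3 (Nat.card N) = 1), Nat.dvd_one,
        orderOf_eq_one_iff] at h3'
      exact Subtype.ext h3'
    have hit : (⇑φ)^[3] = id := by
      funext n
      apply Subtype.ext
      show y * (y * (y * (n : G) * y⁻¹) * y⁻¹) * y⁻¹ = n
      calc y * (y * (y * (n : G) * y⁻¹) * y⁻¹) * y⁻¹ = (y * y * y) * n * (y * y * y)⁻¹ := by group
        _ = n := by rw [hS.cube, one_mul, inv_one, mul_one]
    have h := congrArg Subtype.val (hφ.prod_pow_eq_one hit ⟨i * k, mul_mem hiN hkN⟩)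
    simp only [List.range_succ, List.range_zero, List.nil_append, List.cons_append, List.map_cons, List.map_nil,
      List.prod_cons, List.prod_nil, mul_one, Subgroup.coe_mul, Subgroup.coe_one, Function.iterate_succ,
      Function.iterate_zero, Function.comp_apply, id] at h
    unfold TripleOne
    rw [_root_.mul_inv_rev]
    have h' : (i * k) * ((y * (i * k) * y⁻¹) * (y * (y * (i * k) * y⁻¹) * y⁻¹)) = 1 := h
    simpa only [mul_assoc] using h'
  rcases outcome (Nat.card G) hS le_rfl with ⟨N, hN, -, hcop, hq⟩ | ⟨N, hN, hcomm, hexp, ⟨e⟩⟩ | ⟨⟨e⟩⟩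
  · haveI := hN
    have h3 : ¬ 3 ∣ Nat.card N := fun h => by
      have := Nat.dvd_gcd h (dvd_refl 3)
      rw [hcop] at this
      norm_num at this
    have hy' : QuotientGroup.mk' N y ≠ 1 := fun h => h3 (by
      rw [← hS.order]; exact Subgroup.orderOf_dvd_natCard N ((QuotientGroup.eq_one_iff y).1 h))
    have tq := ht.map (QuotientGroup.mk' N) hy'
    rcases hq with hq | ⟨⟨e⟩⟩
    · exfalso
      have hs3 : orderOf (QuotientGroup.mk' N s) ∣ Nat.gcd 2 3 := Nat.dvd_gcd
        (orderOf_dvd_of_pow_eq_one (by rw [pow_two]; exact tq.2.2.1)) (hq ▸ orderOf_dvd_natCard _)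
      rw [show Nat.gcd 2 3 = 1 from rfl, Nat.dvd_one, orderOf_eq_one_iff] at hs3
      have h4 := tq.2.2.2
      rw [hs3, one_mul, mul_one, eq_inv_iff_mul_eq_one] at h4
      have h5 := tq.1
      rw [h4, one_mul] at h5
      exact hy' h5
    · have hy'' : e (QuotientGroup.mk' N y) ≠ 1 := fun h => hy' (e.injective (h.trans (map_one e).symm))
      have t3 := tq.map e.toMonoidHom hy''
      have key : ∀ j, Four y s j → j ∈ N := fun j hj => (QuotientGroup.eq_one_iff j).1 (e.injective (by
        rw [map_one]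
        exact four_perm_three _ _ _ t3 ((hj.map (QuotientGroup.mk' N)).map e.toMonoidHom)))
      exact Or.inl (fpf N hN h3 (key i hi) (key k hk))
  · haveI := hN
    have h3 : ¬ 3 ∣ Nat.card N := fun h => by
      obtain ⟨n, hn⟩ := exists_prime_orderOf_dvd_card' 3 (hp := ⟨Nat.prime_three⟩) h
      have := orderOf_dvd_of_pow_eq_one (x := (n : G)) (hexp n n.2)
      rw [Subgroup.orderOf_coe, hn] at this
      norm_num at this
    have hy' : QuotientGroup.mk' N y ≠ 1 := fun h => h3 (by
      rw [← hS.order]; exact Subgroup.orderOf_dvd_natCard N ((QuotientGroup.eq_one_iff y).1 h))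
    have hy'' : e (QuotientGroup.mk' N y) ≠ 1 := fun h => hy' (e.injective (h.trans (map_one e).symm))
    have t5 := (ht.map (QuotientGroup.mk' N) hy').map e.toMonoidHom hy''
    have key : ∀ j, Four y s j → j ∈ N := fun j hj => (QuotientGroup.eq_one_iff j).1 (e.injective (by
      rw [map_one]
      exact four_alt_five t5 ((hj.map (QuotientGroup.mk' N)).map e.toMonoidHom)))
    exact Or.inl (fpf N hN h3 (key i hi) (key k hk))
  · have hy'' : e y ≠ 1 := fun h => ht.2.1 (e.injective (h.trans (map_one e).symm))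
    have key : ∀ (n m : ℕ), shift (e y) (e i) (e k) n ^ m = 1 → shift y i k n ^ m = 1 := fun n m h =>
      e.injective (by rw [map_one, ← h]; simp [shift, map_mul, map_pow])
    rcases psl_cases (ht.map e.toMonoidHom hy'') (hi.map e.toMonoidHom) (hk.map e.toMonoidHom) with
      h | ⟨h1, h2⟩ | ⟨h1, h2⟩ | ⟨h1, h2⟩
    · left
      refine e.injective ?_
      rw [map_one]
      have h' : TripleOne (e y) (e i) (e k) := h
      rw [TripleOne] at h'
      simpa [map_mul] using h'
    · exact Or.inr (Or.inl ⟨key _ _ h1, key _ _ h2⟩)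
    · exact Or.inr (Or.inr (Or.inl ⟨key _ _ h1, key _ _ h2⟩))
    · exact Or.inr (Or.inr (Or.inr ⟨key _ _ h1, key _ _ h2⟩))

end CfsgLib.Recog.AmalgamGLTwoThree
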