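import Cfsg.Agent.Lib.Recog.AmalgamGLTwoThree.Frame
import Cfsg.Agent.Lib.Recog.AmalgamGLTwoThree.Bounds
import Cfsg.Agent.Lib.Recog.AmalgamGLTwoThree.Quotients

/-!
# The relator forced by the centralizer of the involution
-/

set_option autoImplicit false

namespace CfsgLib.Recog.AmalgamGLTwoThree

variable {G : Type*} [Group G] [Finite G] {g : Gens G} {A B : Subgroup G}

open CfsgLib.Recog.SelfCentThree in
/-- Either the triple relator holds, or the group collapses. -/
theorem Frame.cases (F : Frame g A B) : (∃ e, g.Triple e) ∨ Nat.card g.genAll ≤ 432 := by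
  classical
  set K : Subgroup G := Subgroup.centralizer ({g.P} : Set G) with hK
  have mem : ∀ {x : G}, Commute g.P x → x ∈ K := fun h => Subgroup.mem_centralizer_singleton_iff.2 h.eq.symm
  let p : K := ⟨g.P, mem (Commute.refl _)⟩
  let N : Subgroup K := Subgroup.zpowers p
  haveI hN : N.Normal := ⟨fun x hx k => by
    obtain ⟨n, rfl⟩ := Subgroup.mem_zpowers_iff.1 hx
    have h : Commute k p := Subtype.ext (Subgroup.mem_centralizer_singleton_iff.1 k.2)
    rw [(h.zpow_right n).eq, mul_inv_cancel_right]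
    exact Subgroup.zpow_mem_zpowers p n⟩
  let π : K →* K ⧸ N := QuotientGroup.mk' N
  have hPi : g.P⁻¹ = g.P := inv_eq_of_mul_eq_one_right F.rel.pp
  have ker : ∀ x : K, π x = 1 → (x : G) = 1 ∨ (x : G) = g.P := by
    intro x hx
    obtain ⟨n, hn⟩ := Subgroup.mem_zpowers_iff.1 ((QuotientGroup.eq_one_iff x).1 hx)
    have hn' : g.P ^ n = (x : G) := by rw [← hn]; rfl
    rcases Int.even_or_odd n with ⟨m, hm⟩ | ⟨m, hm⟩
    · left
      rw [← hn', hm, ← two_mul, zpow_mul, show g.P ^ (2 : ℤ) = g.P * g.P from zpow_two _, F.rel.pp, one_zpow]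
    · right
      rw [← hn', hm, zpow_add, zpow_mul, show g.P ^ (2 : ℤ) = g.P * g.P from zpow_two _, F.rel.pp, one_zpow,
        one_mul, zpow_one]
  have πp : π p = 1 := (QuotientGroup.eq_one_iff p).2 (Subgroup.mem_zpowers p)
  let z : K := ⟨g.za, mem F.comm_za⟩
  let q : K := ⟨g.Q, mem F.comm_Q⟩
  let i : K := ⟨g.ii, mem F.comm_i⟩
  let k : K := ⟨g.kk, mem F.comm_k⟩
  have hz3 : π z * π z * π z = 1 := by
    rw [← map_mul, ← map_mul, show z * z * z = 1 from Subtype.ext F.za_cube, map_one]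
  have hzP : g.za ≠ g.P := fun h => by
    have h3 := F.za_cube
    rw [h, F.rel.pp, one_mul] at h3
    exact F.za_ne (h.trans h3)
  have hz1 : π z ≠ 1 := fun h => (ker z h).elim F.za_ne hzP
  haveI : Fact (Nat.Prime 3) := ⟨Nat.prime_three⟩
  have hS : Setup (π z) := by
    refine ⟨orderOf_eq_prime (by rw [pow_three, ← mul_assoc]; exact hz3) hz1, fun w hw => ?_⟩
    obtain ⟨x, rfl⟩ := QuotientGroup.mk'_surjective N w
    have hc : π (x * z * x⁻¹ * z⁻¹) = 1 := by
      simp only [map_mul, map_inv]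
      rw [show π x * π z = π z * π x from hw, mul_inv_cancel_right, mul_inv_cancel]
    have hxP : g.P * (x : G) = (x : G) * g.P := (Subgroup.mem_centralizer_singleton_iff.1 x.2).symm
    rcases ker _ hc with h | h <;> change (x : G) * g.za * (x : G)⁻¹ * g.za⁻¹ = _ at h
    · obtain ⟨n, hn | hn⟩ := F.cent x (mul_inv_eq_iff_eq_mul.1 (mul_inv_eq_one.1 h)) hxP
      · exact Subgroup.mem_zpowers_iff.2 ⟨n, by rw [zpow_natCast, ← map_pow]; congr 1; exact Subtype.ext hn.symm⟩
      · refine Subgroup.mem_zpowers_iff.2 ⟨n, ?_⟩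
        rw [zpow_natCast, ← map_pow, show x = z ^ n * p from Subtype.ext hn]
        simp [π, πp, map_mul]
    · exfalso
      have hxz : (x : G) * g.za * (x : G)⁻¹ = g.P * g.za := mul_inv_eq_iff_eq_mul.1 h
      have h3 : (g.P * g.za) * (g.P * g.za) * (g.P * g.za) = 1 := by
        rw [← hxz]
        calc _ = (x : G) * (g.za * g.za * g.za) * (x : G)⁻¹ := by group
          _ = 1 := by rw [F.za_cube, mul_one, mul_inv_cancel]
      refine F.P_ne ?_
      have h5 : (g.P * g.za) ^ 3 = g.P := by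
        rw [F.comm_za.mul_pow, pow_three, pow_three, F.rel.pp, mul_one, ← mul_assoc g.za, F.za_cube, mul_one]
      rw [← h5, pow_three, ← mul_assoc]
      exact h3
  have ht : Turn (π z) (π q) := by
    refine ⟨hz3, hz1, ?_, ?_⟩
    · rw [← map_mul, show q * q = 1 from Subtype.ext F.rel.qq, map_one]
    · rw [← map_mul, ← map_mul, ← map_inv]
      congr 1
      exact Subtype.ext F.turn
  have hfour : ∀ (j : K), (j : G) * j = g.P →
      ((j : G) * (g.za * j * g.za⁻¹) * (g.za * g.za * j * (g.za * g.za)⁻¹) = 1 ∨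
        (j : G) * (g.za * j * g.za⁻¹) * (g.za * g.za * j * (g.za * g.za)⁻¹) = g.P) →
      g.Q * j * g.Q = j * g.P → Four (π z) (π q) (π j) := by
    intro j h1 h2 h3
    refine ⟨?_, ?_, ?_⟩
    · rw [← map_mul, show j * j = p from Subtype.ext h1, πp]
    · simp only [← map_mul, ← map_inv]
      rcases h2 with h2 | h2
      · rw [show j * (z * j * z⁻¹) * (z * z * j * (z * z)⁻¹) = 1 from Subtype.ext h2, map_one]
      · rw [show j * (z * j * z⁻¹) * (z * z * j * (z * z)⁻¹) = p from Subtype.ext h2, πp]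
    · have e : q * j * q = j * p := Subtype.ext h3
      have hq2 : π q * π q = 1 := by rw [← map_mul, show q * q = 1 from Subtype.ext F.rel.qq, map_one]
      have e' := congrArg π e
      rw [map_mul, map_mul, map_mul, πp, mul_one] at e'
      nth_rw 2 [← e']
      rw [mul_assoc (π q * π j), hq2, mul_one]
  have hi := hfour i F.sq_i (Or.inl F.four_i) F.turn_i
  have hk := hfour k F.sq_k (Or.inr F.four_k) F.turn_k
  have tail : ∀ x : G, (x = 1 ∨ x = g.P) → ∃ e, x * g.tailVal e = 1 := by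
    rintro x (rfl | rfl)
    · exact ⟨false, by simp [Gens.tailVal]⟩
    · exact ⟨true, by simp [Gens.tailVal, F.rel.pp]⟩
  have hu : ∀ n, ∃ w : K, π w = shift (π z) (π i) (π k) n ∧ (w : G) = g.uu n := fun n =>
    ⟨i * (z ^ n * k * (z⁻¹) ^ n), by simp only [shift, map_mul, map_pow, map_inv],
      by simp [Gens.uu, F.za_inv, i, z, k]⟩
  have hpow : ∀ n m, shift (π z) (π i) (π k) n ^ m = 1 → ∃ e, g.Pow n m e := by
    intro n m h
    obtain ⟨w, hw, hw'⟩ := hu n
    have h1 := ker (w ^ m) (by rw [map_pow, hw, h])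
    rw [SubmonoidClass.coe_pow, hw'] at h1
    exact tail _ h1
  rcases relation_cases hS ht hi hk with h | ⟨h1, h2⟩ | ⟨h1, h2⟩ | ⟨h1, h2⟩
  · left
    unfold TripleOne at h
    simp only [← map_mul, ← map_inv] at h
    have h1 := ker _ h
    obtain ⟨e, he⟩ := tail _ h1
    refine ⟨e, ?_⟩
    unfold Gens.Triple
    rw [← he]
    simp only [Subgroup.coe_mul, Subgroup.coe_inv, i, k, z, Gens.uu, pow_zero, one_mul, mul_one, F.za_inv,
      pow_two, _root_.mul_inv_rev]
  · obtain ⟨e, he⟩ := hpow _ _ h1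
    obtain ⟨e', he'⟩ := hpow _ _ h2
    exact Or.inr (Gens.collapse_zero F.rel e e' he he').2
  · obtain ⟨e, he⟩ := hpow _ _ h1
    obtain ⟨e', he'⟩ := hpow _ _ h2
    exact Or.inr (Gens.collapse_one F.rel e e' he he').2
  · obtain ⟨e, he⟩ := hpow _ _ h1
    obtain ⟨e', he'⟩ := hpow _ _ h2
    exact Or.inr (Gens.collapse_two F.rel e e' he he').2

end CfsgLib.Recog.AmalgamGLTwoThree
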