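import Mathlib

/-!
# Finite checks: four groups normalised by an element of order three and an inverting involution
-/

set_option autoImplicit false
set_option maxRecDepth 100000

namespace CfsgLib.Recog.AmalgamGLTwoThree

/-- An element `y` of order three inverted by the involution `s`. -/
def Turn {W : Type*} [Group W] (y s : W) : Prop := y * y * y = 1 ∧ y ≠ 1 ∧ s * s = 1 ∧ s * y * s = y⁻¹

/-- An element generating a four group with its conjugate, centralised by `s`. -/
def Four {W : Type*} [Group W] (y s i : W) : Prop :=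
  i * i = 1 ∧ i * (y * i * y⁻¹) * (y * y * i * (y * y)⁻¹) = 1 ∧ s * i = i * s

/-- The fixed-point-free product of `i * k`. -/
def TripleOne {W : Type*} [Group W] (y i k : W) : Prop :=
  (i * k) * (y * (i * k) * y⁻¹) * (y * y * (i * k) * (y * y)⁻¹) = 1

/-- The three products. -/
def shift {W : Type*} [Group W] (y i k : W) (n : ℕ) : W := i * (y ^ n * k * (y⁻¹) ^ n)

/-- In the symmetric group of degree three there is no four group. -/
theorem four_perm_three : ∀ y s i : Equiv.Perm (Fin 3), (y * y * y = 1 ∧ y ≠ 1 ∧ s * s = 1 ∧ s * y * s = y⁻¹) →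
    (i * i = 1 ∧ i * (y * i * y⁻¹) * (y * y * i * (y * y)⁻¹) = 1 ∧ s * i = i * s) → i = 1 := by
  decide +kernel

theorem four_alt_five_aux : ∀ y : alternatingGroup (Fin 5), y * y * y = 1 → y ≠ 1 →
    ∀ s : alternatingGroup (Fin 5), s * s = 1 → s * y * s = y⁻¹ →
    ∀ i : alternatingGroup (Fin 5), i * i = 1 → s * i = i * s →
      i * (y * i * y⁻¹) * (y * y * i * (y * y)⁻¹) = 1 → i = 1 := by
  decide +kernel

theorem four_alt_five {y s i : alternatingGroup (Fin 5)} (ht : Turn y s) (hf : Four y s i) : i = 1 :=
  four_alt_five_aux y ht.1 ht.2.1 s ht.2.2.1 ht.2.2.2 i hf.1 hf.2.2 hf.2.1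

/-- Entries of a matrix over the field with seven elements. -/
abbrev Ent : Type := ℕ × ℕ × ℕ × ℕ

/-- Product of matrices. -/
def emul (x y : Ent) : Ent :=
  ((x.1 * y.1 + x.2.1 * y.2.2.1) % 7, (x.1 * y.2.1 + x.2.1 * y.2.2.2) % 7,
    (x.2.2.1 * y.1 + x.2.2.2 * y.2.2.1) % 7, (x.2.2.1 * y.2.1 + x.2.2.2 * y.2.2.2) % 7)

/-- Equality of entries. -/
def ebeq (x y : Ent) : Bool :=
  Nat.beq x.1 y.1 && Nat.beq x.2.1 y.2.1 && Nat.beq x.2.2.1 y.2.2.1 && Nat.beq x.2.2.2 y.2.2.2

/-- Plus or minus the identity. -/
def eone (x : Ent) : Bool := ebeq x (1, 0, 0, 1) || ebeq x (6, 0, 0, 6)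

/-- The inverse up to sign of an element with `x * x * x` central. -/
def einv (x : Ent) : Ent := emul x x

/-- All matrices of determinant one. -/
def eall : List Ent :=
  (List.range 7).flatMap fun a => (List.range 7).flatMap fun b => (List.range 7).flatMap fun c =>
    (List.range 7).filterMap fun d => if (a * d + 6 * (b * c)) % 7 = 1 then some (a, b, c, d) else none

/-- The triple product. -/
def etriple (y x : Ent) : Ent :=
  emul (emul x (emul (emul y x) (einv y))) (emul (emul (emul y y) x) y)

/-- One of the alternatives. -/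
def egood (y i k : Ent) : Bool :=
  let u0 := emul i k
  let u1 := emul i (emul (emul y k) (einv y))
  let u2 := emul i (emul (emul (emul y y) k) y)
  let f := fun u : Ent => eone (emul (emul u u) (emul u u))
  let t := fun u : Ent => eone (emul (emul u u) u)
  eone (etriple y u0) || (f u0 && t u1) || (f u1 && t u2) || (t u1 && f u2)

/-- The check. -/
def echeck : Bool :=
  eall.all fun y => !(eone (emul (emul y y) y) && !eone y) || eall.all fun s =>
    !(eone (emul s s) && eone (emul (emul (emul s y) s) y)) ||
      let I := eall.filter fun i => eone (emul i i) && eone (etriple y i) &&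
        (ebeq (emul s i) (emul i s) || ebeq (emul (6, 0, 0, 6) (emul s i)) (emul i s))
      I.all fun i => I.all fun k => egood y i k

theorem echeck_true : echeck = true := by decide +kernel

end CfsgLib.Recog.AmalgamGLTwoThree
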