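import Cfsg.Agent.Lib.Recog.SporBound.Sound
import Cfsg.Agent.Lib.Recog.SporBound.AgTwoThreeA.Valid

/-!
# Six involutions generating two copies of the affine group `AGL(2,3)`

Owner: helper3. The relators of the amalgam of two such groups, and the first coset bound.
-/

set_option autoImplicit false

namespace CfsgLib.Recog.AmalgamGLTwoThree

open CfsgLib.Recog.SporBound
open CfsgLib.ThreeTrans.CosetIndex (eqLetter)

/-- Six elements of a group; `P, Q, X, Y, R` generate the first member, `P, Q, X, Y, U` the second. -/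
structure Gens (G : Type*) where
  P : G
  Q : G
  X : G
  Y : G
  R : G
  U : G

namespace Gens

variable {G : Type*} [Group G] (g : Gens G)

/-- The letters of the certificates. -/
def letter : ℕ → G
  | 0 => g.P
  | 1 => g.Q
  | 2 => g.X
  | 3 => g.Y
  | 4 => g.R
  | 5 => g.U
  | _ => 1

/-- The product of a word. -/
def val (w : List ℕ) : G := (w.map g.letter).prod

/-- The element of order three centralising `P`. -/
def za : G := g.Q * g.X

/-- An element of order four of the first Levi factor. -/
def ii : G := g.Q * g.R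

/-- An element of order four of the opposite Levi factor. -/
def kk : G := g.U * g.R * (g.P * g.U) * g.R * g.U

/-- The product of the two elements of order four, shifted by a power of `za`. -/
def uu (n : ℕ) : G := g.ii * (g.za ^ n * g.kk * (g.X * g.Q) ^ n)

/-- The relators of the amalgam. -/
def baseWords : List (List ℕ) :=
  [[0, 0], [1, 1], [2, 2], [3, 3], [4, 4], [5, 5], [3, 1, 3, 1], [4, 1, 4, 1, 0], [2, 1, 2, 1, 2, 1],
    [2, 4, 2, 4, 2, 4, 0], [0, 3, 2, 3, 2, 4, 3, 4], [2, 0, 2, 0], [5, 0, 5, 1, 0], [3, 0, 3, 0, 3, 0],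
    [3, 5, 3, 5, 3, 5], [5, 2, 5, 3, 1, 2, 3, 2]]

/-- The relators of the amalgam hold. -/
structure Rel : Prop where
  pp : g.P * g.P = 1
  qq : g.Q * g.Q = 1
  xx : g.X * g.X = 1
  yy : g.Y * g.Y = 1
  rr : g.R * g.R = 1
  uv : g.U * g.U = 1
  yq : g.Y * g.Q * g.Y * g.Q = 1
  rq : g.R * g.Q * g.R * g.Q * g.P = 1
  xq : g.X * g.Q * g.X * g.Q * g.X * g.Q = 1
  xr : g.X * g.R * g.X * g.R * g.X * g.R * g.P = 1
  pyx : g.P * g.Y * g.X * g.Y * g.X * g.R * g.Y * g.R = 1
  xp : g.X * g.P * g.X * g.P = 1
  up : g.U * g.P * g.U * g.Q * g.P = 1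
  yp : g.Y * g.P * g.Y * g.P * g.Y * g.P = 1
  yu : g.Y * g.U * g.Y * g.U * g.Y * g.U = 1
  uxu : g.U * g.X * g.U * g.Y * g.Q * g.X * g.Y * g.X = 1

/-- The first member of the amalgam. -/
def genA : Subgroup G := Subgroup.closure {x | ∃ n ∈ [0, 1, 2, 3, 4], x = g.letter n}

/-- The group generated by the six elements. -/
def genAll : Subgroup G := Subgroup.closure {x | ∃ n ∈ [0, 1, 2, 3, 4, 5], x = g.letter n}

variable {g}

theorem letter_mul_self (h : g.Rel) (n : ℕ) : g.letter n * g.letter n = 1 := by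
  match n with
  | 0 => exact h.pp
  | 1 => exact h.qq
  | 2 => exact h.xx
  | 3 => exact h.yy
  | 4 => exact h.rr
  | 5 => exact h.uv
  | _ + 6 => exact one_mul 1

theorem letter_eq : g.letter eqLetter = 1 := rfl

theorem rel_base (h : g.Rel) : ∀ w ∈ baseWords, (w.map g.letter).prod = 1 := by
  simp only [baseWords, List.forall_mem_cons, List.map_cons, List.map_nil, List.prod_cons, List.prod_nil, mul_one,
    letter, ← mul_assoc]
  exact ⟨h.pp, h.qq, h.xx, h.yy, h.rr, h.uv, h.yq, h.rq, h.xq, h.xr, h.pyx, h.xp, h.up, h.yp, h.yu, h.uxu,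
    fun _ hw => absurd hw List.not_mem_nil⟩

theorem rels_A : AgTwoThreeA.cert.rels.all (fun w => baseWords.contains w) = true := by decide +kernel

/-- Certified relators hold. -/
theorem rels_of {C : Cert} (h : g.Rel) {E : List (List ℕ)} (hE : ∀ w ∈ E, (w.map g.letter).prod = 1)
    (hC : C.rels.all (fun w => (baseWords ++ E).contains w) = true) :
    ∀ w ∈ C.rels, (w.map g.letter).prod = 1 := fun w hw => by
  have := List.all_eq_true.1 hC w hw
  rw [List.contains_iff_mem, List.mem_append] at this
  exact this.elim (rel_base h w) (hE w)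

/-- The first member has order at most `432`. -/
theorem genA_le (h : g.Rel) : Finite g.genA ∧ Nat.card g.genA ≤ 432 := by
  obtain ⟨hfin, hle⟩ := Cert.card_le (C := AgTwoThreeA.cert) (a := g.letter) (letter_mul_self h) letter_eq
    AgTwoThreeA.ok ⊥ g.genA
    (rels_of h (E := []) (fun _ hw => absurd hw List.not_mem_nil) (by simpa using rels_A))
    (fun w hw => absurd hw (by simp [AgTwoThreeA.cert])) le_rfl
  exact ⟨hfin, by simpa [AgTwoThreeA.cert] using hle⟩

/-- A certificate over the first member bounds the whole group. -/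
theorem genAll_le (h : g.Rel) {C : Cert} (hC : C.OK) {n : ℕ} (hn : C.n = n) (hk : C.kl = [0, 1, 2, 3, 4, 5])
    (hsub : C.subs = [[0], [1], [2], [3], [4]]) {E : List (List ℕ)} (hE : ∀ w ∈ E, (w.map g.letter).prod = 1)
    (hrel : C.rels.all (fun w => (baseWords ++ E).contains w) = true) :
    Finite g.genAll ∧ Nat.card g.genAll ≤ n * 432 := by
  obtain ⟨hfinA, hA⟩ := genA_le h
  haveI := hfinA
  obtain ⟨hfin, hle⟩ := Cert.card_le (C := C) (a := g.letter) (letter_mul_self h) letter_eq hC g.genA g.genAll
    (rels_of h hE hrel) (by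
      intro w hw
      rw [hsub] at hw
      simp only [List.mem_cons, List.not_mem_nil, or_false] at hw
      rcases hw with rfl | rfl | rfl | rfl | rfl <;>
        simp only [List.map_cons, List.map_nil, List.prod_cons, List.prod_nil, mul_one] <;>
        exact Subgroup.subset_closure ⟨_, by decide, rfl⟩)
    (by rw [hk]; exact le_rfl)
  refine ⟨hfin, hle.trans ?_⟩
  rw [hn]
  exact Nat.mul_le_mul_left n hA

end Gens

end CfsgLib.Recog.AmalgamGLTwoThree
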