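import Cfsg.Agent.Lib.Recog.AmalgamGLTwoThree.Side
import Cfsg.Agent.Lib.Recog.AmalgamGLTwoThree.Gens

/-!
# The six involutions of an amalgam
-/

set_option autoImplicit false

namespace CfsgLib.Recog.AmalgamGLTwoThree

variable {G : Type*} [Group G]

/-- Two sides meeting in the normalizer of a group of order three. -/
structure Setting (A B V W Z : Subgroup G) : Prop where
  sA : Side A V
  sB : Side B W
  hVB : V ≤ B
  hWA : W ≤ A
  hZ : Z = V ⊓ W
  card_Z : Nat.card Z = 3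
  norm : Subgroup.normalizer (Z : Set G) ≤ A ⊓ B

/-- What the six involutions provide. -/
structure Frame (g : Gens G) (A B : Subgroup G) : Prop where
  rel : g.Rel
  genA_le : g.genA ≤ A
  le_gen : A ⊔ B ≤ g.genAll
  za_cube : g.za * g.za * g.za = 1
  za_ne : g.za ≠ 1
  P_ne : g.P ≠ 1
  cent : ∀ x, x * g.za = g.za * x → g.P * x = x * g.P → ∃ k : ℕ, x = g.za ^ k ∨ x = g.za ^ k * g.P
  four_i : g.ii * (g.za * g.ii * g.za⁻¹) * (g.za * g.za * g.ii * (g.za * g.za)⁻¹) = 1
  four_k : g.kk * (g.za * g.kk * g.za⁻¹) * (g.za * g.za * g.kk * (g.za * g.za)⁻¹) = g.P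
  comm_za : Commute g.P g.za
  comm_Q : Commute g.P g.Q
  comm_i : Commute g.P g.ii
  comm_k : Commute g.P g.kk
  za_inv : g.X * g.Q = g.za⁻¹
  turn : g.Q * g.za * g.Q = g.za⁻¹
  sq_i : g.ii * g.ii = g.P
  sq_k : g.kk * g.kk = g.P
  turn_i : g.Q * g.ii * g.Q = g.ii * g.P
  turn_k : g.Q * g.kk * g.Q = g.kk * g.P

theorem zero_of_neg : ∀ q : ZMod 3, -q = q → q = 0 := by decide

theorem mem_normalizer_of_inverts {Z : Subgroup G} {p : G} (h : ∀ x ∈ Z, p * x * p⁻¹ = x⁻¹) :
    p ∈ Subgroup.normalizer (Z : Set G) := by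
  refine Subgroup.mem_normalizer_iff.2 fun x => ⟨fun hx => by rw [h x hx]; exact inv_mem hx, fun hx => ?_⟩
  have e : x = (p * x * p⁻¹)⁻¹ := mul_left_cancel (mul_right_cancel (show p * x * p⁻¹ =
    p * (p * x * p⁻¹)⁻¹ * p⁻¹ by rw [h _ (inv_mem hx), inv_inv]))
  rw [e]; exact inv_mem hx

namespace Setting

variable {A B V W Z : Subgroup G} (S : Setting A B V W Z)

include S

theorem swap : Setting B A W V Z :=
  ⟨S.sB, S.sA, S.hWA, S.hVB, S.hZ.trans (inf_comm V W), S.card_Z, S.norm.trans (le_of_eq (inf_comm A B))⟩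

theorem mem_left {x : G} (hx : x ∈ Z) : x ∈ V := (S.hZ ▸ hx : x ∈ V ⊓ W).1

theorem mem_right {x : G} (hx : x ∈ Z) : x ∈ W := (S.hZ ▸ hx : x ∈ V ⊓ W).2

theorem exists_ne : ∃ c ∈ Z, c ≠ 1 := by
  by_contra h
  push Not at h
  have h3 := S.card_Z
  rw [Subgroup.card_eq_one.2 ((Subgroup.eq_bot_iff_forall _).2 h)] at h3
  norm_num at h3

theorem zpowers_eq {c : G} (hc : c ∈ Z) (hc1 : c ≠ 1) : Subgroup.zpowers c = Z := by
  haveI : Finite Z := Nat.finite_of_card_ne_zero (by rw [S.card_Z]; norm_num)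
  refine Subgroup.eq_of_le_of_card_ge (Subgroup.zpowers_le.2 hc) ?_
  rw [S.card_Z, Nat.card_zpowers, S.sA.orderOf_three (S.mem_left hc) hc1]

theorem exists_outside : ∃ x ∈ V, x ∉ Z := by
  by_contra h
  push Not at h
  have hle : V ≤ Z := h
  haveI : Finite Z := Nat.finite_of_card_ne_zero (by rw [S.card_Z]; norm_num)
  have := Nat.card_le_card_of_injective (Subgroup.inclusion hle) (Subgroup.inclusion_injective hle)
  rw [S.card_Z, S.sA.card_V] at this
  norm_num at this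

/-- Elements of the two normal subgroups outside their intersection do not commute. -/
theorem not_commute {x y : G} (hx : x ∈ V) (hxZ : x ∉ Z) (hy : y ∈ W) (hyZ : y ∉ Z) : x * y ≠ y * x := by
  intro h
  obtain ⟨c, hc, hc1⟩ := S.exists_ne
  refine hyZ ?_
  rw [S.hZ]
  refine ⟨S.sA.mem_of_fix (S.mem_left hc) hx hc1 ?_ (S.hWA hy)
    (S.sB.comm _ hy _ (S.mem_right hc)) h.symm, hy⟩
  rw [S.zpowers_eq hc hc1]; exact hxZ

/-- The commutator of two such elements lies in `Z`. -/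
theorem comm_mem {x y : G} (hx : x ∈ V) (hy : y ∈ W) : y * x * y⁻¹ * x⁻¹ ∈ Z := by
  rw [S.hZ]
  refine Subgroup.mem_inf.2 ⟨mul_mem (S.sA.norm _ (S.hWA hy) _ hx) (inv_mem hx), ?_⟩
  rw [show y * x * y⁻¹ * x⁻¹ = y * (x * y⁻¹ * x⁻¹) by group]
  exact mul_mem hy (S.sB.norm _ (S.hVB hx) _ (inv_mem hy))

theorem central_left {z x : G} (hz : z ∈ Z) (hx : x ∈ V) : z * x = x * z := S.sA.comm _ (S.mem_left hz) _ hx

theorem central_right {z x : G} (hz : z ∈ Z) (hx : x ∈ W) : z * x = x * z := S.sB.comm _ (S.mem_right hz) _ hx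

/-- An involution inverting `V` fixes a point of `W` outside `Z`. -/
theorem exists_fixed {p : G} (hp2 : p * p = 1) (hinv : ∀ x ∈ V, p * x * p⁻¹ = x⁻¹) :
    ∃ a ∈ W, a ∉ Z ∧ p * a * p⁻¹ = a := by
  have hpB : p ∈ B := (S.norm (mem_normalizer_of_inverts fun x hx => hinv x (S.mem_left hx))).2
  have hpi : p⁻¹ = p := inv_eq_of_mul_eq_one_right hp2
  obtain ⟨x, hx, hxZ⟩ := S.exists_outside
  obtain ⟨w, hw, hwZ⟩ := S.swap.exists_outside
  set a := w * (p * w * p⁻¹) with ha
  have hpw : p * w * p⁻¹ ∈ W := S.sB.norm _ hpB _ hw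
  have hpa : p * a * p⁻¹ = a := by
    calc p * a * p⁻¹ = (p * w * p⁻¹) * ((p * p) * w * (p * p)⁻¹) := by rw [ha]; group
      _ = a := by rw [hp2, inv_one, mul_one, one_mul, S.sB.comm _ hpw _ hw]
  refine ⟨a, mul_mem hw hpw, fun haZ => ?_, hpa⟩
  have ha1 : a = 1 := by
    refine S.sA.eq_one_of_sq (S.mem_left haZ) ?_
    have h := hinv a (S.mem_left haZ)
    rw [hpa] at h
    nth_rw 2 [h]
    exact mul_inv_cancel a
  have hw' : p * w * p⁻¹ = w⁻¹ := eq_inv_of_mul_eq_one_right ha1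
  set c := w * x * w⁻¹ * x⁻¹ with hc
  have hcZ : c ∈ Z := S.comm_mem hx hw
  have h1 : p * c * p⁻¹ = w⁻¹ * x⁻¹ * w * x := by
    calc p * c * p⁻¹ = (p * w * p⁻¹) * (p * x * p⁻¹) * (p * w * p⁻¹)⁻¹ * (p * x * p⁻¹)⁻¹ := by rw [hc]; group
      _ = _ := by rw [hw', hinv x hx, inv_inv, inv_inv]
  have h2 : w⁻¹ * x⁻¹ * w * x = c := by
    calc w⁻¹ * x⁻¹ * w * x = w⁻¹ * x⁻¹ * (c * x) * w := by rw [hc]; group
      _ = w⁻¹ * c * w := by rw [S.central_left hcZ hx]; group
      _ = c := by rw [mul_assoc, S.central_right hcZ hw, inv_mul_cancel_left]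
  rw [h2, hinv c (S.mem_left hcZ)] at h1
  have hc1 : c = 1 := S.sA.eq_one_of_sq (S.mem_left hcZ) (by nth_rw 1 [← h1]; exact inv_mul_cancel c)
  exact S.not_commute hx hxZ hw hwZ (mul_inv_eq_iff_eq_mul.1 (mul_inv_eq_one.1 hc1)).symm

end Setting

namespace Basis

variable {A V : Subgroup G} {u v p : G} (B : Basis A V u v p)

include B

theorem one_of {g : G} {M : Lin} (hg : g ∈ A) (hgp : Commute p g) (h : Acts u v g M)
    (hM : M = ((1, 0), (0, 1))) : g = 1 :=
  B.eq_one hg hgp (hM ▸ h)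

theorem p_of {g : G} {M : Lin} (hg : g ∈ A) (hgp : Commute p g) (h : Acts u v g M)
    (hM : M = ((-1, 0), (0, -1))) : g = p :=
  B.eq_p hg hgp (hM ▸ h)

end Basis

/-- The six involutions. -/
theorem Setting.exists_frame {A B V W Z : Subgroup G} (S : Setting A B V W Z) : ∃ g : Gens G, Frame g A B := by
  obtain ⟨c0, hc0, hc01⟩ := S.exists_ne
  obtain ⟨x0, hx0, hx0Z⟩ := S.exists_outside
  obtain ⟨P, hPA, hP2, hPinv⟩ := S.sA.exists_invert (S.mem_left hc0) hx0 hc01
    (by rw [S.zpowers_eq hc0 hc01]; exact hx0Z)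
  have hPB : P ∈ B := (S.norm (mem_normalizer_of_inverts fun x hx => hPinv x (S.mem_left hx))).2
  have hPi : P⁻¹ = P := inv_eq_of_mul_eq_one_right hP2
  obtain ⟨a, haW, haZ, hPa'⟩ := S.exists_fixed hP2 hPinv
  have hPa : Commute P a := mul_inv_eq_iff_eq_mul.1 hPa'
  obtain ⟨Q0, hQ0, hQ02, hQ0inv⟩ := S.sB.exists_invert (S.mem_right hc0) haW hc01
    (by rw [S.zpowers_eq hc0 hc01]; exact haZ)
  have hQ0i : Q0⁻¹ = Q0 := inv_eq_of_mul_eq_one_right hQ02
  -- the second involution, adjusted to commute with the first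
  set u := P * Q0 * P * Q0 with hu
  have huW : u ∈ W := by
    refine S.sB.self _ (mul_mem (mul_mem (mul_mem hPB hQ0) hPB) hQ0) fun x hx => mul_inv_eq_iff_eq_mul.1 ?_
    have hx' : P⁻¹ * x⁻¹ * P ∈ W := by simpa using S.sB.norm P⁻¹ (inv_mem hPB) _ (inv_mem hx)
    calc u * x * u⁻¹ = P * (Q0 * (P * (Q0 * x * Q0⁻¹) * P⁻¹) * Q0⁻¹) * P⁻¹ := by rw [hu]; group
      _ = x := by
        rw [hQ0inv x hx]
        rw [show P * x⁻¹ * P⁻¹ = P⁻¹ * x⁻¹ * P by rw [hPi]]
        rw [hQ0inv _ hx']; group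
  set Q := u * u * Q0 with hQ
  have hQB : Q ∈ B := mul_mem (mul_mem (S.sB.le huW) (S.sB.le huW)) hQ0
  have hQinv : ∀ x ∈ W, Q * x * Q⁻¹ = x⁻¹ := fun x hx => by
    calc Q * x * Q⁻¹ = (u * u) * (Q0 * x * Q0⁻¹) * (u * u)⁻¹ := by rw [hQ]; group
      _ = x⁻¹ := by rw [hQ0inv x hx, S.sB.comm _ (mul_mem huW huW) _ (inv_mem hx), mul_inv_cancel_right]
  have hQ2 : Q * Q = 1 := by
    calc Q * Q = (u * u) * (Q0 * (u * u) * Q0⁻¹) * (Q0 * Q0) := by rw [hQ]; group
      _ = 1 := by rw [hQ0inv _ (mul_mem huW huW), hQ02, mul_one, mul_inv_cancel]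
  have hQi : Q⁻¹ = Q := inv_eq_of_mul_eq_one_right hQ2
  have hPQ : Commute P Q := by
    refine mul_inv_eq_iff_eq_mul.1 ?_
    have hPu : P * u * P⁻¹ = u⁻¹ := by
      rw [hu, _root_.mul_inv_rev, _root_.mul_inv_rev, _root_.mul_inv_rev, hQ0i, hPi]
      calc P * (P * Q0 * P * Q0) * P = (P * P) * (Q0 * P * Q0 * P) := by group
        _ = _ := by rw [hP2]; group
    calc P * Q * P⁻¹ = (P * u * P⁻¹) * (P * u * P⁻¹) * (P * Q0 * P⁻¹) := by rw [hQ]; group
      _ = u⁻¹ * u⁻¹ * (u * Q0⁻¹) := by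
        rw [hPu, hu, hPi]; group
      _ = u⁻¹ * Q0 := by rw [hQ0i]; group
      _ = Q := by rw [hQ, show u * u = u⁻¹ from eq_inv_of_mul_eq_one_left (S.sB.cube huW)]
  have hQA : Q ∈ A := (S.norm (mem_normalizer_of_inverts fun x hx => hQinv x (S.mem_right hx))).1
  obtain ⟨b, hbV, hbZ, hQb'⟩ := S.swap.exists_fixed hQ2 hQinv
  have hQb : Commute Q b := mul_inv_eq_iff_eq_mul.1 hQb'
  -- the commutator
  set c := a * b * a⁻¹ * b⁻¹ with hc
  have hcZ : c ∈ Z := S.comm_mem hbV haW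
  have hc1 : c ≠ 1 := fun h =>
    S.not_commute hbV hbZ haW haZ (mul_inv_eq_iff_eq_mul.1 (mul_inv_eq_one.1 h)).symm
  have hcV := S.mem_left hcZ
  have hcW := S.mem_right hcZ
  have BA : Basis A V c b P :=
    ⟨S.sA, hcV, hbV, hc1, by rw [S.zpowers_eq hcZ hc1]; exact hbZ, hPA, hP2, hPinv⟩
  have BB : Basis B W c a Q :=
    ⟨S.sB, hcW, haW, hc1, by rw [S.zpowers_eq hcZ hc1]; exact haZ, hQB, hQ2, hQinv⟩
  have haA : a ∈ A := S.hWA haW
  have hbB : b ∈ B := S.hVB hbV
  have hac : a * c = c * a := (S.central_right hcZ haW).symm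
  have hbc : b * c = c * b := (S.central_left hcZ hbV).symm
  have aQ : Acts c b Q ((-1, 0), (0, 1)) :=
    ⟨by rw [hQinv c hcW, show ((-1, 0) : Vec) = -(1, 0) by simp, BA.ev_neg, BA.ev_fst],
      by rw [hQb', BA.ev_snd]⟩
  have aa : Acts c b a ((1, 0), (1, 1)) :=
    ⟨by rw [hac, mul_inv_cancel_right, BA.ev_fst],
      by rw [show ((1, 1) : Vec) = (1, 0) + (0, 1) by simp, BA.ev_add, BA.ev_fst, BA.ev_snd, hc]; group⟩
  have aai : Acts c b a⁻¹ ((1, 0), (-1, 1)) := BA.acts_inv aa (by decide)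
  have bP : Acts c a P ((-1, 0), (0, 1)) :=
    ⟨by rw [hPinv c hcV, show ((-1, 0) : Vec) = -(1, 0) by simp, BB.ev_neg, BB.ev_fst],
      by rw [hPa', BB.ev_snd]⟩
  have bb : Acts c a b ((1, 0), (-1, 1)) :=
    ⟨by rw [hbc, mul_inv_cancel_right, BB.ev_fst],
      by rw [show ((-1, 1) : Vec) = -(1, 0) + (0, 1) by simp, BB.ev_add, BB.ev_neg, BB.ev_fst, BB.ev_snd, hc]
         group⟩
  have bbi : Acts c a b⁻¹ ((1, 0), (1, 1)) := BB.acts_inv bb (by decide)
  obtain ⟨R, hRA, hPR, aR⟩ := BA.exists_acts ((0, -1), (-1, 0)) (by decide) (by decide)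
  obtain ⟨U, hUB, hQU, bU⟩ := BB.exists_acts ((0, -1), (-1, 0)) (by decide) (by decide)
  have cPR : Commute P R := hPR
  have cQU : Commute Q U := hQU
  have cPP : Commute P P := Commute.refl P
  have cQQ : Commute Q Q := Commute.refl Q
  have hR2 : R * R = 1 := BA.one_of (mul_mem hRA hRA) (cPR.mul_right cPR) (BA.acts_mul aR aR) (by decide)
  have hU2 : U * U = 1 := BB.one_of (mul_mem hUB hUB) (cQU.mul_right cQU) (BB.acts_mul bU bU) (by decide)
  have hRi : R⁻¹ = R := inv_eq_of_mul_eq_one_right hR2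
  have hUi : U⁻¹ = U := inv_eq_of_mul_eq_one_right hU2
  have hQaQ : Q * a * Q⁻¹ = a⁻¹ := hQinv a haW
  have hPbP : P * b * P⁻¹ = b⁻¹ := hPinv b hbV
  have hQa : Commute P (Q * a) := hPQ.mul_right hPa
  have hPb : Commute Q (P * b) := hPQ.symm.mul_right hQb
  have aX := BA.acts_mul aQ aa
  have bY := BB.acts_mul bP bb
  let g : Gens G := ⟨P, Q, Q * a, P * b, R, U⟩
  have hrq : R * Q * R * Q * P = 1 := BA.one_of
    (mul_mem (mul_mem (mul_mem (mul_mem hRA hQA) hRA) hQA) hPA)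
    ((((cPR.mul_right hPQ).mul_right cPR).mul_right hPQ).mul_right cPP)
    (BA.acts_mul (BA.acts_mul (BA.acts_mul (BA.acts_mul aR aQ) aR) aQ) BA.acts_p) (by decide)
  have hup : U * P * U * Q * P = 1 := BB.one_of
    (mul_mem (mul_mem (mul_mem (mul_mem hUB hPB) hUB) hQB) hPB)
    ((((cQU.mul_right hPQ.symm).mul_right cQU).mul_right cQQ).mul_right hPQ.symm)
    (BB.acts_mul (BB.acts_mul (BB.acts_mul (BB.acts_mul bU bP) bU) BB.acts_p) bP) (by decide)
  have rel : g.Rel := by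
    refine ⟨hP2, hQ2, ?_, ?_, hR2, hU2, ?_, hrq, ?_, ?_, ?_, ?_, hup, ?_, ?_, ?_⟩
    · change Q * a * (Q * a) = 1
      calc Q * a * (Q * a) = (Q * a * Q⁻¹) * (Q * Q) * a := by group
        _ = 1 := by rw [hQaQ, hQ2, mul_one, inv_mul_cancel]
    · change P * b * (P * b) = 1
      calc P * b * (P * b) = (P * b * P⁻¹) * (P * P) * b := by group
        _ = 1 := by rw [hPbP, hP2, mul_one, inv_mul_cancel]
    · change P * b * Q * (P * b) * Q = 1
      calc P * b * Q * (P * b) * Q = P * b * (Q * (P * b)) * Q := by group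
        _ = (P * b * P⁻¹) * (P * P) * b * (Q * Q) := by rw [hPb.eq]; group
        _ = 1 := by rw [hPbP, hP2, hQ2, mul_one, mul_one, inv_mul_cancel]
    · change Q * a * Q * (Q * a) * Q * (Q * a) * Q = 1
      calc Q * a * Q * (Q * a) * Q * (Q * a) * Q = (Q * a * Q) * (Q * a * Q) * (Q * a * Q) := by group
        _ = 1 := by
          rw [show Q * a * Q = a⁻¹ by nth_rw 2 [← hQi]; exact hQaQ]
          exact S.sB.cube (inv_mem haW)
    · change Q * a * R * (Q * a) * R * (Q * a) * R * P = 1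
      exact BA.one_of
        (mul_mem (mul_mem (mul_mem (mul_mem (mul_mem (mul_mem (mul_mem hQA haA) hRA) (mul_mem hQA haA)) hRA)
          (mul_mem hQA haA)) hRA) hPA)
        ((((((hQa.mul_right cPR).mul_right hQa).mul_right cPR).mul_right hQa).mul_right cPR).mul_right cPP)
        (BA.acts_mul (BA.acts_mul (BA.acts_mul (BA.acts_mul (BA.acts_mul (BA.acts_mul aX aR) aX) aR) aX) aR)
          BA.acts_p) (by decide)
    · change P * (P * b) * (Q * a) * (P * b) * (Q * a) * R * (P * b) * R = 1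
      have e1 : P * (P * b) * (Q * a) * (P * b) * (Q * a) = c * P := by
        calc P * (P * b) * (Q * a) * (P * b) * (Q * a)
            = (P * P) * b * Q * (a * P) * b * Q * a := by group
          _ = b * (Q * P) * a * b * Q * a * 1 := by rw [hP2, one_mul, mul_one, ← hPa.eq]; group
          _ = b * P * Q * a * (b * Q) * a := by rw [← hPQ.eq, mul_one]; group
          _ = b * P * (Q * a * Q⁻¹) * (Q * Q) * b * a := by rw [← hQb.eq]; group
          _ = b * (P * a⁻¹) * b * a := by rw [hQaQ, hQ2]; group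
          _ = b * a⁻¹ * (P * b * P⁻¹) * (P * a) := by rw [hPa.inv_right.eq]; group
          _ = (b * a⁻¹ * b⁻¹ * a) * P := by rw [hPbP, hPa.eq]; group
          _ = c * P := by
            congr 1
            calc b * a⁻¹ * b⁻¹ * a = a⁻¹ * (a * b * a⁻¹ * b⁻¹) * a := by group
              _ = c := by rw [← hc, mul_assoc, ← hac, inv_mul_cancel_left]
      have e2 : R * b * R⁻¹ = c⁻¹ := by
        rw [aR.2, show ((-1, 0) : Vec) = -(1, 0) by simp, BA.ev_neg, BA.ev_fst]
      have e4 : R * (P * b) * R = P * c⁻¹ := by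
        rw [show R * (P * b) * R = R * P * b * R by group, ← cPR.eq]
        nth_rw 2 [← hRi]
        rw [show P * R * b * R⁻¹ = P * (R * b * R⁻¹) by group, e2]
      calc P * (P * b) * (Q * a) * (P * b) * (Q * a) * R * (P * b) * R
          = (P * (P * b) * (Q * a) * (P * b) * (Q * a)) * (R * (P * b) * R) := by group
        _ = c * (P * P) * c⁻¹ := by rw [e1, e4]; group
        _ = 1 := by rw [hP2, mul_one, mul_inv_cancel]
    · change Q * a * P * (Q * a) * P = 1
      calc Q * a * P * (Q * a) * P = Q * a * (P * (Q * a)) * P := by group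
        _ = (Q * a * Q⁻¹) * (Q * Q) * a * (P * P) := by rw [hQa.eq]; group
        _ = 1 := by rw [hQaQ, hQ2, hP2, mul_one, mul_one, inv_mul_cancel]
    · change P * b * P * (P * b) * P * (P * b) * P = 1
      calc P * b * P * (P * b) * P * (P * b) * P = (P * b * P) * (P * b * P) * (P * b * P) := by group
        _ = 1 := by
          rw [show P * b * P = b⁻¹ by nth_rw 2 [← hPi]; exact hPbP]
          exact S.sA.cube (inv_mem hbV)
    · change P * b * U * (P * b) * U * (P * b) * U = 1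
      exact BB.one_of
        (mul_mem (mul_mem (mul_mem (mul_mem (mul_mem (mul_mem hPB hbB) hUB) (mul_mem hPB hbB)) hUB)
          (mul_mem hPB hbB)) hUB)
        (((((hPb.mul_right cQU).mul_right hPb).mul_right cQU).mul_right hPb).mul_right cQU)
        (BB.acts_mul (BB.acts_mul (BB.acts_mul (BB.acts_mul (BB.acts_mul bY bU) bY) bU) bY) bU) (by decide)
    · change U * (Q * a) * U * (P * b) * Q * (Q * a) * (P * b) * (Q * a) = 1
      have e1 : P * b * Q * (Q * a) * (P * b) * (Q * a) = c * Q := by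
        calc P * b * Q * (Q * a) * (P * b) * (Q * a)
            = P * b * (Q * Q) * (a * P) * b * Q * a := by group
          _ = (P * b * P) * a * (b * Q) * a := by rw [hQ2, ← hPa.eq]; group
          _ = b⁻¹ * a * (Q * b) * a := by
            nth_rw 2 [← hPi]; rw [hPbP, ← hQb.eq]
          _ = b⁻¹ * a * (Q * (b * a) * Q⁻¹) * Q := by group
          _ = b⁻¹ * (a * b * a⁻¹) * Q := by
            rw [show Q * (b * a) * Q⁻¹ = (Q * b * Q⁻¹) * (Q * a * Q⁻¹) by group, hQb', hQaQ]; group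
          _ = c * Q := by
            congr 1
            calc b⁻¹ * (a * b * a⁻¹) = b⁻¹ * (a * b * a⁻¹ * b⁻¹) * b := by group
              _ = c := by rw [← hc, mul_assoc, ← hbc, inv_mul_cancel_left]
      have e2 : U * a * U⁻¹ = c⁻¹ := by
        rw [bU.2, show ((-1, 0) : Vec) = -(1, 0) by simp, BB.ev_neg, BB.ev_fst]
      have e4 : U * (Q * a) * U = Q * c⁻¹ := by
        rw [show U * (Q * a) * U = U * Q * a * U by group, ← cQU.eq]
        nth_rw 2 [← hUi]
        rw [show Q * U * a * U⁻¹ = Q * (U * a * U⁻¹) by group, e2]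
      calc U * (Q * a) * U * (P * b) * Q * (Q * a) * (P * b) * (Q * a)
          = (U * (Q * a) * U) * (P * b * Q * (Q * a) * (P * b) * (Q * a)) := by group
        _ = Q * Q := by rw [e1, e4]; group
        _ = 1 := hQ2
  have hza : g.za = a := by
    change Q * (Q * a) = a
    rw [← mul_assoc, hQ2, one_mul]
  have h1 : R * Q * R = P * Q := by
    have h := eq_inv_of_mul_eq_one_left (show R * Q * R * (Q * P) = 1 by rw [← mul_assoc]; exact hrq)
    rw [h, _root_.mul_inv_rev, hQi, hPi]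
  have h2 : U * P * U = P * Q := by
    have h := eq_inv_of_mul_eq_one_left (show U * P * U * (Q * P) = 1 by rw [← mul_assoc]; exact hup)
    rw [h, _root_.mul_inv_rev, hQi, hPi]
  have eP : (U * R) * Q * (U * R)⁻¹ = P := by
    rw [_root_.mul_inv_rev, hRi, hUi]
    calc U * R * Q * (R * U) = U * (R * Q * R) * U := by group
      _ = U * P * (Q * U) := by rw [h1]; group
      _ = (U * P * U) * Q := by rw [cQU.eq]; group
      _ = P := by rw [h2, mul_assoc, hQ2, mul_one]
  have ek : U * R * (P * U) * R * U = (U * R) * (P * U) * (U * R)⁻¹ := by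
    rw [_root_.mul_inv_rev, hRi, hUi]; group
  refine ⟨g, rel, ?_, ?_, ?_, ?_, ?_, ?_, ?_, ?_, ?_, hPQ, hPQ.mul_right cPR, ?_, ?_, ?_, ?_, ?_, ?_, ?_⟩
  · refine (Subgroup.closure_le A).2 ?_
    rintro x ⟨n, hn, rfl⟩
    simp only [List.mem_cons, List.not_mem_nil, or_false] at hn
    rcases hn with rfl | rfl | rfl | rfl | rfl
    exacts [hPA, hQA, mul_mem hQA haA, mul_mem hPA (S.sA.le hbV), hRA]
  · have hmem : ∀ n ∈ [0, 1, 2, 3, 4, 5], g.letter n ∈ g.genAll := fun n hn =>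
      Subgroup.subset_closure ⟨n, hn, rfl⟩
    have kP : P ∈ g.genAll := hmem 0 (by decide)
    have kQ : Q ∈ g.genAll := hmem 1 (by decide)
    have ka : a ∈ g.genAll := hza ▸ mul_mem kQ (hmem 2 (by decide))
    have kb : b ∈ g.genAll := by
      have h : P * (P * b) ∈ g.genAll := mul_mem kP (hmem 3 (by decide))
      rwa [← mul_assoc, hP2, one_mul] at h
    have kc : c ∈ g.genAll := mul_mem (mul_mem (mul_mem ka kb) (inv_mem ka)) (inv_mem kb)
    have kR : R ∈ g.genAll := hmem 4 (by decide)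
    have kU : U ∈ g.genAll := hmem 5 (by decide)
    exact sup_le
      (BA.le_of_gens kc kb kP ka kR kQ haA hRA hQA (e := 1) (by decide) aa aR aQ)
      (BB.le_of_gens kc ka kQ kb kU kP hbB hUB hPB (e := -1) (by decide) bb bU bP)
  · rw [hza]; exact S.sB.cube haW
  · rw [hza]; exact fun h => haZ (h ▸ one_mem Z)
  · intro h
    change P = 1 at h
    have e := hPinv c hcV
    rw [h, one_mul, inv_one, mul_one] at e
    exact hc1 (S.sA.eq_one_of_sq hcV (by nth_rw 2 [e]; exact mul_inv_cancel c))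
  · rw [hza]
    intro x hxa hxP
    change P * x = x * P at hxP
    have e2 : U * c * U⁻¹ = a⁻¹ := by
      rw [bU.1, show ((0, -1) : Vec) = -(0, 1) by simp, BB.ev_neg, BB.ev_snd]
    have hxB : x ∈ B := by
      have hcom : U⁻¹ * x * U * c = c * (U⁻¹ * x * U) := by
        calc U⁻¹ * x * U * c = U⁻¹ * (x * (U * c * U⁻¹)) * U := by group
          _ = U⁻¹ * ((U * c * U⁻¹) * x) * U := by rw [e2, (Commute.inv_right (hxa : Commute x a)).eq]
          _ = _ := by group
      have hn : U⁻¹ * x * U ∈ Subgroup.normalizer (Z : Set G) := by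
        rw [← S.zpowers_eq hcZ hc1]
        refine Subgroup.mem_normalizer_iff.2 fun y => ⟨fun hy => ?_, fun hy => ?_⟩
        · obtain ⟨k, rfl⟩ := Subgroup.mem_zpowers_iff.1 hy
          rw [(Commute.zpow_right (show Commute (U⁻¹ * x * U) c from hcom) k).eq, mul_inv_cancel_right]
          exact Subgroup.zpow_mem_zpowers c k
        · obtain ⟨k, hk⟩ := Subgroup.mem_zpowers_iff.1 hy
          have : y = c ^ k := by
            calc y = (U⁻¹ * x * U)⁻¹ * (U⁻¹ * x * U * y * (U⁻¹ * x * U)⁻¹) * (U⁻¹ * x * U) := by group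
              _ = (U⁻¹ * x * U)⁻¹ * (c ^ k * (U⁻¹ * x * U)) := by rw [← hk]; group
              _ = c ^ k := by
                rw [← (Commute.zpow_right (show Commute (U⁻¹ * x * U) c from hcom) k).eq, inv_mul_cancel_left]
          exact this ▸ Subgroup.zpow_mem_zpowers c k
      have h : U * (U⁻¹ * x * U) * U⁻¹ ∈ B := mul_mem (mul_mem hUB (S.norm hn).2) (inv_mem hUB)
      simpa [mul_assoc] using h
    obtain ⟨⟨q1, q2⟩, hq⟩ := BB.surj (BB.side.norm x hxB c hcW)
    have hfix : ∀ y ∈ B, Commute P y → y * a = a * y → y * c * y⁻¹ = c → ∃ k : ℕ, y = a ^ k := by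
      intro y hy hyP hya hyc
      have hyW := BB.side.mem_of_fix hcW haW hc1 BB.hvu hy (mul_inv_eq_iff_eq_mul.1 hyc) hya
      obtain ⟨⟨k1, k2⟩, hk⟩ := BB.surj hyW
      have h1 : P * y * P⁻¹ = y := by rw [hyP.eq, mul_inv_cancel_right]
      rw [← hk, BB.acts_ev bP] at h1
      have h2 := congrArg Prod.fst (BB.inj h1)
      simp [Lin.app] at h2
      have h3 : k1 = 0 := zero_of_neg k1 h2
      exact ⟨k2.val, by rw [← hk, h3]; simp [ev]⟩
    have hxc : x * c * x⁻¹ = ev c a (q1, q2) := hq.symm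
    have h1 : ev c a ((-1 : ZMod 3) * q1, q2) = (ev c a (q1, q2))⁻¹ := by
      calc ev c a ((-1 : ZMod 3) * q1, q2) = P * ev c a (q1, q2) * P⁻¹ := by
            rw [BB.acts_ev bP]; congr 1; ext <;> simp [Lin.app]
        _ = x * (P * c * P⁻¹) * x⁻¹ := by
            rw [← hxc]
            calc P * (x * c * x⁻¹) * P⁻¹ = (P * x) * c * (P * x)⁻¹ := by group
              _ = x * (P * c * P⁻¹) * x⁻¹ := by rw [hxP]; group
        _ = _ := by rw [hPinv c hcV, ← hxc]; group
    rw [← BB.ev_neg] at h1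
    have h2 : q2 = 0 := by
      have h := congrArg Prod.snd (BB.inj h1)
      simp at h
      exact zero_of_neg q2 h.symm
    subst h2
    have hne : q1 ≠ 0 := by
      rintro rfl
      rw [BB.ev_zero] at hxc
      exact hc1 (conj_eq_one_iff.1 hxc)
    rcases zmod_three_cases q1 hne with rfl | rfl
    · obtain ⟨k, hk⟩ := hfix x hxB hxP hxa (by rw [hxc, BB.ev_fst])
      exact ⟨k, Or.inl hk⟩
    · obtain ⟨k, hk⟩ := hfix (x * P) (mul_mem hxB hPB) (Commute.mul_right hxP cPP)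
        (by rw [mul_assoc, hPa.eq, ← mul_assoc, hxa, mul_assoc]) (by
          rw [show x * P * c * (x * P)⁻¹ = x * (P * c * P⁻¹) * x⁻¹ by group, hPinv c hcV,
            show x * c⁻¹ * x⁻¹ = (x * c * x⁻¹)⁻¹ by group, hxc, ← BB.ev_neg]
          simp [BB.ev_fst])
      refine ⟨k, Or.inr ?_⟩
      change x = a ^ k * P
      rw [← hk, mul_assoc, hP2, mul_one]
  · rw [hza]
    change Q * R * (a * (Q * R) * a⁻¹) * (a * a * (Q * R) * (a * a)⁻¹) = 1
    rw [_root_.mul_inv_rev]
    have ai := BA.acts_mul aQ aR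
    have cI : Commute P (Q * R) := hPQ.mul_right cPR
    exact BA.one_of
      (mul_mem (mul_mem (mul_mem hQA hRA) (mul_mem (mul_mem haA (mul_mem hQA hRA)) (inv_mem haA)))
        (mul_mem (mul_mem (mul_mem haA haA) (mul_mem hQA hRA)) (mul_mem (inv_mem haA) (inv_mem haA))))
      ((cI.mul_right ((hPa.mul_right cI).mul_right hPa.inv_right)).mul_right
        (((hPa.mul_right hPa).mul_right cI).mul_right (hPa.inv_right.mul_right hPa.inv_right)))
      (BA.acts_mul (BA.acts_mul ai (BA.acts_mul (BA.acts_mul aa ai) aai))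
        (BA.acts_mul (BA.acts_mul (BA.acts_mul aa aa) ai) (BA.acts_mul aai aai))) (by decide)
  · rw [hza]
    change U * R * (P * U) * R * U * (a * (U * R * (P * U) * R * U) * a⁻¹) *
      (a * a * (U * R * (P * U) * R * U) * (a * a)⁻¹) = P
    have bj := BB.acts_mul bP bU
    have cJ : Commute Q (P * U) := hPQ.symm.mul_right cQU
    have key : P * U * (b * (P * U) * b⁻¹) * (b * b * (P * U) * (b⁻¹ * b⁻¹)) = Q := BB.p_of
      (mul_mem (mul_mem (mul_mem hPB hUB) (mul_mem (mul_mem hbB (mul_mem hPB hUB)) (inv_mem hbB)))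
        (mul_mem (mul_mem (mul_mem hbB hbB) (mul_mem hPB hUB)) (mul_mem (inv_mem hbB) (inv_mem hbB))))
      ((cJ.mul_right ((hQb.mul_right cJ).mul_right hQb.inv_right)).mul_right
        (((hQb.mul_right hQb).mul_right cJ).mul_right (hQb.inv_right.mul_right hQb.inv_right)))
      (BB.acts_mul (BB.acts_mul bj (BB.acts_mul (BB.acts_mul bb bj) bbi))
        (BB.acts_mul (BB.acts_mul (BB.acts_mul bb bb) bj) (BB.acts_mul bbi bbi))) (by decide)
    have eb : R * b * R⁻¹ = c⁻¹ := by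
      rw [aR.2, show ((-1, 0) : Vec) = -(1, 0) by simp, BA.ev_neg, BA.ev_fst]
    have ec : U * c⁻¹ * U⁻¹ = a := by
      rw [show U * c⁻¹ * U⁻¹ = (U * c * U⁻¹)⁻¹ by group, bU.1,
        show ((0, -1) : Vec) = -(0, 1) by simp, BB.ev_neg, BB.ev_snd, inv_inv]
    have ea : (U * R) * b * (U * R)⁻¹ = a := by
      rw [show U * R * b * (U * R)⁻¹ = U * (R * b * R⁻¹) * U⁻¹ by group, eb, ec]
    calc U * R * (P * U) * R * U * (a * (U * R * (P * U) * R * U) * a⁻¹) *
          (a * a * (U * R * (P * U) * R * U) * (a * a)⁻¹)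
        = (U * R) * (P * U * (b * (P * U) * b⁻¹) * (b * b * (P * U) * (b⁻¹ * b⁻¹))) * (U * R)⁻¹ := by
          rw [ek, ← ea]; group
      _ = P := by rw [key, eP]
  · rw [hza]; exact hPa
  · change Commute P (U * R * (P * U) * R * U)
    have hk : Commute ((U * R) * Q * (U * R)⁻¹) ((U * R) * (P * U) * (U * R)⁻¹) :=
      Commute.map (hPQ.symm.mul_right cQU) (MulAut.conj (U * R)).toMonoidHom
    rwa [eP, ← ek] at hk
  · rw [hza]
    change Q * a * Q = a⁻¹
    nth_rw 2 [← hQi]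
    exact hQaQ
  · rw [hza]
    change Q * a * Q = a⁻¹
    nth_rw 2 [← hQi]
    exact hQaQ
  · change Q * R * (Q * R) = P
    calc Q * R * (Q * R) = Q * (R * Q * R) := by group
      _ = Q * Q * P := by rw [h1, hPQ.eq]; group
      _ = P := by rw [hQ2, one_mul]
  · change U * R * (P * U) * R * U * (U * R * (P * U) * R * U) = P
    calc U * R * (P * U) * R * U * (U * R * (P * U) * R * U)
        = (U * R) * (P * (U * P * U)) * (U * R)⁻¹ := by rw [ek]; group
      _ = (U * R) * ((P * P) * Q) * (U * R)⁻¹ := by rw [h2]; group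
      _ = P := by rw [hP2, one_mul, eP]
  · change Q * (Q * R) * Q = Q * R * P
    calc Q * (Q * R) * Q = (Q * Q) * (R * Q) := by group
      _ = R * Q * (R * R) := by rw [hQ2, hR2, one_mul, mul_one]
      _ = (R * Q * R) * R := by group
      _ = Q * (P * R) := by rw [h1, hPQ.eq]; group
      _ = Q * R * P := by rw [cPR.eq]; group
  · change Q * (U * R * (P * U) * R * U) * Q = U * R * (P * U) * R * U * P
    have eQ : (U * R) * (P * Q) * (U * R)⁻¹ = Q := by
      rw [_root_.mul_inv_rev, hRi, hUi, ← h1]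
      calc U * R * (R * Q * R) * (R * U) = U * (R * R) * Q * (R * R) * U := by group
        _ = Q * (U * U) := by rw [hR2, mul_one, mul_one, ← cQU.eq]; group
        _ = Q := by rw [hU2, mul_one]
    have e1 : U * P = P * Q * U := by
      rw [← h2]
      calc U * P = U * P * (U * U) := by rw [hU2, mul_one]
        _ = U * P * U * U := by group
    have e3 : (P * Q) * (P * U) * (P * Q) = P * U * Q := by
      calc (P * Q) * (P * U) * (P * Q) = P * (Q * P) * (U * P) * Q := by group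
        _ = (P * P) * Q * (P * Q * U) * Q := by rw [← hPQ.eq, e1]; group
        _ = (Q * P) * Q * U * Q := by rw [hP2]; group
        _ = P * (Q * Q) * U * Q := by rw [← hPQ.eq]; group
        _ = P * U * Q := by rw [hQ2, mul_one]
    calc Q * (U * R * (P * U) * R * U) * Q
        = ((U * R) * (P * Q) * (U * R)⁻¹) * ((U * R) * (P * U) * (U * R)⁻¹) *
            ((U * R) * (P * Q) * (U * R)⁻¹) := by rw [eQ, ek]
      _ = (U * R) * ((P * Q) * (P * U) * (P * Q)) * (U * R)⁻¹ := by group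
      _ = ((U * R) * (P * U) * (U * R)⁻¹) * ((U * R) * Q * (U * R)⁻¹) := by rw [e3]; group
      _ = U * R * (P * U) * R * U * P := by rw [eP, ek]

end CfsgLib.Recog.AmalgamGLTwoThree
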