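import Cfsg.Agent.Lib.Recog.AmalgamGLTwoThree.Bounds
import Cfsg.Agent.Lib.Sporadic.SporMathieu
import Cfsg.Agent.Lib.Sporadic.Perms
import Cfsg.Agent.Lib.Blocks.GLTwoThreeCentralizer.PSLThree

/-!
# The two models: `M12` and `PSL(3,3)`
-/

set_option autoImplicit false
set_option maxRecDepth 20000
set_option synthInstance.maxSize 4000
set_option synthInstance.maxHeartbeats 400000

namespace CfsgLib.Recog.AmalgamGLTwoThree

open Cfsg
open CfsgLib.Sporadic (pget pt ix stdD inCode mimg basisMask forallLt)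
open scoped Pointwise

namespace Gens

variable {G H : Type*} [Group G] [Group H]

/-- The images under a homomorphism. -/
def map (g : Gens G) (f : G →* H) : Gens H := ⟨f g.P, f g.Q, f g.X, f g.Y, f g.R, f g.U⟩

/-- The pairs. -/
def pair (g : Gens G) (m : Gens H) : Gens (G × H) :=
  ⟨(g.P, m.P), (g.Q, m.Q), (g.X, m.X), (g.Y, m.Y), (g.R, m.R), (g.U, m.U)⟩

theorem Rel.pair {g : Gens G} {m : Gens H} (a : g.Rel) (b : m.Rel) : (g.pair m).Rel :=
  ⟨Prod.ext a.pp b.pp, Prod.ext a.qq b.qq, Prod.ext a.xx b.xx, Prod.ext a.yy b.yy, Prod.ext a.rr b.rr,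
    Prod.ext a.uv b.uv, Prod.ext a.yq b.yq, Prod.ext a.rq b.rq, Prod.ext a.xq b.xq, Prod.ext a.xr b.xr,
    Prod.ext a.pyx b.pyx, Prod.ext a.xp b.xp, Prod.ext a.up b.up, Prod.ext a.yp b.yp, Prod.ext a.yu b.yu,
    Prod.ext a.uxu b.uxu⟩

theorem Rel.map {g : Gens G} (a : g.Rel) (f : G →* H) : (g.map f).Rel := by
  constructor <;> simp only [Gens.map, ← map_mul] <;>
    first
      | rw [a.pp, map_one] | rw [a.qq, map_one] | rw [a.xx, map_one] | rw [a.yy, map_one] | rw [a.rr, map_one]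
      | rw [a.uv, map_one] | rw [a.yq, map_one] | rw [a.rq, map_one] | rw [a.xq, map_one] | rw [a.xr, map_one]
      | rw [a.pyx, map_one] | rw [a.xp, map_one] | rw [a.up, map_one] | rw [a.yp, map_one] | rw [a.yu, map_one]
      | rw [a.uxu, map_one]

theorem Triple.pair {g : Gens G} {m : Gens H} {e : Bool} (a : g.Triple e) (b : m.Triple e) :
    (g.pair m).Triple e := by
  cases e <;> exact Prod.ext a b

theorem Triple.map {g : Gens G} {e : Bool} (a : g.Triple e) (f : G →* H) : (g.map f).Triple e := by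
  have h := congrArg f a
  cases e <;>
    simpa [Triple, uu, za, ii, kk, tailVal, Gens.map, map_mul, map_pow] using h

theorem letter_map (g : Gens G) (f : G →* H) (n : ℕ) : (g.map f).letter n = f (g.letter n) := by
  match n with
  | 0 | 1 | 2 | 3 | 4 | 5 => rfl
  | _ + 6 => exact (map_one f).symm

theorem letter_pair (g : Gens G) (m : Gens H) (n : ℕ) : (g.pair m).letter n = (g.letter n, m.letter n) := by
  match n with
  | 0 | 1 | 2 | 3 | 4 | 5 => rfl
  | _ + 6 => rfl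

theorem genAll_map (g : Gens G) (f : G →* H) : g.genAll.map f = (g.map f).genAll := by
  rw [genAll, genAll, MonoidHom.map_closure]
  congr 1
  ext x
  simp only [Set.mem_image, Set.mem_setOf_eq]
  constructor
  · rintro ⟨y, ⟨n, hn, rfl⟩, rfl⟩
    exact ⟨n, hn, (letter_map g f n).symm⟩
  · rintro ⟨n, hn, rfl⟩
    exact ⟨g.letter n, ⟨n, hn, rfl⟩, (letter_map g f n).symm⟩

/-- Identification with a simple model of the largest possible order. -/
theorem nonempty_iso {M : Type*} [Group M] [Finite M] [IsSimpleGroup M] [Nontrivial G] {g : Gens G} {m : Gens M}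
    {e : Bool} {n : ℕ} (hle : ∀ k : Gens (G × M), k.Rel → k.Triple e → Finite k.genAll ∧ Nat.card k.genAll ≤ n)
    (hg : g.Rel) (hge : g.Triple e) (hm : m.Rel) (hme : m.Triple e) (hgen : g.genAll = ⊤) (mgen : m.genAll = ⊤)
    (hM : n ≤ Nat.card M) : Nonempty (G ≃* M) := by
  obtain ⟨hfin, hle⟩ := hle (g.pair m) (hg.pair hm) (hge.pair hme)
  haveI := hfin
  set D := (g.pair m).genAll
  have hfst : (g.pair m).map (MonoidHom.fst G M) = g := rfl
  have hsnd : (g.pair m).map (MonoidHom.snd G M) = m := rfl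
  let p₁ : D →* G := (MonoidHom.fst G M).comp D.subtype
  let p₂ : D →* M := (MonoidHom.snd G M).comp D.subtype
  have h1 : Function.Surjective p₁ := fun x => by
    have hx : x ∈ D.map (MonoidHom.fst G M) := by
      rw [genAll_map, hfst, hgen]; exact Subgroup.mem_top x
    obtain ⟨y, hy, rfl⟩ := hx
    exact ⟨⟨y, hy⟩, rfl⟩
  have h2 : Function.Surjective p₂ := fun x => by
    have hx : x ∈ D.map (MonoidHom.snd G M) := by
      rw [genAll_map, hsnd, mgen]; exact Subgroup.mem_top x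
    obtain ⟨y, hy, rfl⟩ := hx
    exact ⟨⟨y, hy⟩, rfl⟩
  have hb : Function.Bijective p₂ := (Nat.bijective_iff_surjective_and_card p₂).2
    ⟨h2, le_antisymm (hle.trans hM) (Nat.card_le_card_of_surjective p₂ h2)⟩
  let φ : M →* G := p₁.comp (MulEquiv.ofBijective p₂ hb).symm.toMonoidHom
  have hφ : Function.Surjective φ := h1.comp (MulEquiv.ofBijective p₂ hb).symm.surjective
  rcases IsSimpleGroup.eq_bot_or_eq_top_of_normal φ.ker inferInstance with h | h
  · exact ⟨(MulEquiv.ofBijective φ ⟨(MonoidHom.ker_eq_bot_iff φ).1 h, hφ⟩).symm⟩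
  · exfalso
    obtain ⟨x, hx⟩ := exists_ne (1 : G)
    obtain ⟨y, rfl⟩ := hφ x
    exact hx (h ▸ Subgroup.mem_top y : y ∈ φ.ker)

end Gens

/-- A subgroup of index `k` of a simple group of order larger than `k!` is the whole group. -/
theorem eq_top_of_dvd {M : Type*} [Group M] [Finite M] [IsSimpleGroup M] {H : Subgroup M} {d k : ℕ}
    (hd : d ∣ Nat.card H) (hk : Nat.card M ≤ d * k) (hd0 : 0 < d) (hf : Nat.factorial k < Nat.card M) : H = ⊤ := by
  rcases IsSimpleGroup.eq_bot_or_eq_top_of_normal H.normalCore inferInstance with h | h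
  · exfalso
    have hH := Nat.le_of_dvd Nat.card_pos hd
    have hidx : H.index ≤ k := by
      have h1 := H.card_mul_index
      refine Nat.le_of_mul_le_mul_left ?_ hd0
      calc d * H.index ≤ Nat.card H * H.index := Nat.mul_le_mul_right _ hH
        _ = Nat.card M := h1
        _ ≤ d * k := hk
    have hinj : Function.Injective (MulAction.toPermHom M (M ⧸ H)) := by
      rw [← MonoidHom.ker_eq_bot_iff, ← Subgroup.normalCore_eq_ker]; exact h
    have := Nat.card_le_card_of_injective _ hinj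
    rw [Nat.card_perm, ← Subgroup.index] at this
    exact absurd (this.trans (Nat.factorial_le hidx)) (not_le.2 hf)
  · exact top_le_iff.1 (h.ge.trans H.normalCore_le)

/-- The order of a subgroup containing a group of order `27` given by three elements. -/
theorem dvd_of_heisenberg {M : Type*} [Group M] [Finite M] {H : Subgroup M} {x y z : M} (hx : x ∈ H) (hy : y ∈ H)
    (hz : z ∈ H) (ox : orderOf x = 3) (oy : orderOf y = 3) (oz : orderOf z = 3) (hxz : x * z = z * x)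
    (hyz : y * z = z * y) (hzx : z ≠ x ∧ z ≠ x * x) (hxy : y * x ≠ x * y) (hconj : y * x * y⁻¹ = z⁻¹ * x) :
    27 ∣ Nat.card H := by
  haveI : Fact (Nat.Prime 3) := ⟨Nat.prime_three⟩
  set V := Subgroup.zpowers x ⊔ Subgroup.zpowers z with hV
  have pcyc : ∀ u : M, orderOf u = 3 → IsPGroup 3 (Subgroup.zpowers u) := fun u hu =>
    IsPGroup.of_card (n := 1) (by rw [Nat.card_zpowers, hu, pow_one])
  have hzn : Subgroup.zpowers z ≤ Subgroup.normalizer (Subgroup.zpowers x : Set M) := by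
    refine Subgroup.zpowers_le.2 ?_
    refine Subgroup.mem_normalizer_iff.2 fun u => ⟨fun hu => ?_, fun hu => ?_⟩
    · obtain ⟨i, rfl⟩ := Subgroup.mem_zpowers_iff.1 hu
      rw [(Commute.zpow_right (show Commute z x from hxz.symm) i).eq, mul_inv_cancel_right]
      exact Subgroup.zpow_mem_zpowers x i
    · obtain ⟨i, hi⟩ := Subgroup.mem_zpowers_iff.1 hu
      have : u = x ^ i := by
        calc u = z⁻¹ * (z * u * z⁻¹) * z := by group
          _ = z⁻¹ * (x ^ i * z) := by rw [← hi]; group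
          _ = z⁻¹ * (z * x ^ i) := by rw [(Commute.zpow_left (show Commute x z from hxz) i).eq]
          _ = x ^ i := by group
      exact this ▸ Subgroup.zpow_mem_zpowers x i
  have pV : IsPGroup 3 V := (pcyc x ox).to_sup_of_normal_left' (pcyc z oz) hzn
  have hxV : x ∈ V := Subgroup.mem_sup_left (Subgroup.mem_zpowers x)
  have hzV : z ∈ V := Subgroup.mem_sup_right (Subgroup.mem_zpowers z)
  have hyn : Subgroup.zpowers y ≤ Subgroup.normalizer (V : Set M) := by
    refine Subgroup.zpowers_le.2 ?_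
    have hsub : V.map (MulAut.conj y).toMonoidHom ≤ V := by
      rw [hV, Subgroup.map_sup, MonoidHom.map_zpowers, MonoidHom.map_zpowers]
      refine sup_le (Subgroup.zpowers_le.2 ?_) (Subgroup.zpowers_le.2 ?_)
      · show y * x * y⁻¹ ∈ V
        rw [hconj]; exact mul_mem (inv_mem hzV) hxV
      · show y * z * y⁻¹ ∈ V
        rw [hyz, mul_inv_cancel_right]; exact hzV
    have heq := Subgroup.eq_of_le_of_card_ge hsub
      (le_of_eq (Subgroup.card_map_of_injective (MulAut.conj y).injective).symm)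
    refine Subgroup.mem_normalizer_iff.2 fun u => ⟨fun hu => heq ▸ Subgroup.mem_map_of_mem _ hu, fun hu => ?_⟩
    rw [← heq] at hu
    obtain ⟨w, hw, hwu⟩ := hu
    exact ((MulAut.conj y).injective hwu : w = u) ▸ hw
  have pW : IsPGroup 3 ↥(V ⊔ Subgroup.zpowers y) := pV.to_sup_of_normal_left' (pcyc y oy) hyn
  have comm : ∀ u ∈ V, ∀ w ∈ V, u * w = w * u := by
    intro u hu w hw
    have hle : V ≤ Subgroup.closure {x, z} :=
      sup_le (Subgroup.zpowers_le.2 (Subgroup.subset_closure (Or.inl rfl)))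
        (Subgroup.zpowers_le.2 (Subgroup.subset_closure (Or.inr rfl)))
    haveI := Subgroup.isMulCommutative_closure (k := ({x, z} : Set M)) (by
      rintro a (rfl | rfl) b (rfl | rfl) <;> first | rfl | exact hxz | exact hxz.symm)
    exact congrArg Subtype.val (mul_comm' (⟨u, hle hu⟩ : Subgroup.closure {x, z}) ⟨w, hle hw⟩)
  obtain ⟨a, ha⟩ := IsPGroup.iff_card.1 pV
  obtain ⟨b, hb⟩ := IsPGroup.iff_card.1 pW
  have h2 : 2 ≤ a := by
    by_contra hlt
    have hle : Nat.card V ≤ Nat.card (Subgroup.zpowers x) := by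
      rw [Nat.card_zpowers, ox, ha]
      calc (3 : ℕ) ^ a ≤ 3 ^ 1 := Nat.pow_le_pow_right (by norm_num) (by omega)
        _ = 3 := pow_one 3
    have heq := Subgroup.eq_of_le_of_card_ge (show Subgroup.zpowers x ≤ V from le_sup_left) hle
    obtain ⟨k, hk⟩ := (mem_powers_iff_mem_zpowers).2 (show z ∈ Subgroup.zpowers x by rw [heq]; exact hzV)
    have hk' : x ^ k = z := hk
    rw [← pow_mod_orderOf, ox] at hk'
    rcases (show k % 3 = 0 ∨ k % 3 = 1 ∨ k % 3 = 2 by omega) with e | e | e <;> rw [e] at hk'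
    · rw [pow_zero] at hk'; rw [← hk', orderOf_one] at oz; norm_num at oz
    · exact hzx.1 (by rw [← hk', pow_one])
    · exact hzx.2 (by rw [← hk', pow_two])
  have h3 : a < b := by
    have hlt : V < V ⊔ Subgroup.zpowers y := lt_of_le_of_ne le_sup_left fun e =>
      hxy (comm y (e ▸ Subgroup.mem_sup_right (Subgroup.mem_zpowers y)) x hxV)
    have := Set.ncard_lt_ncard (SetLike.coe_ssubset_coe.2 hlt) (Set.toFinite _)
    rw [← Nat.card_coe_set_eq, ← Nat.card_coe_set_eq] at this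
    have h' : Nat.card V < Nat.card ↥(V ⊔ Subgroup.zpowers y) := this
    rw [ha, hb] at h'
    exact (Nat.pow_lt_pow_iff_right (by norm_num)).1 h'
  refine dvd_trans ?_ (Subgroup.card_dvd_of_le (show V ⊔ Subgroup.zpowers y ≤ H from
    sup_le (sup_le (Subgroup.zpowers_le.2 hx) (Subgroup.zpowers_le.2 hz)) (Subgroup.zpowers_le.2 hy)))
  rw [hb, show (27 : ℕ) = 3 ^ 3 by norm_num]
  exact pow_dvd_pow 3 (by omega)

/-- Six involutions of the 24 points, packed. -/
def packs : List ℕ :=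
  [970499966350631336865513127433832480, 735500604421669808992593446508235808,
    233233386906768391987032901617288256, 984724499033168829526341250609397796,
    716077585160412467072142696091060225, 444738317977551238577238853718058016]

theorem packs_invol : ∀ i < 6, ∀ x : GolayPt,
    pt (pget (packs.getD i 0) (ix (pt (pget (packs.getD i 0) (ix x))))) = x := by
  decide +kernel

/-- The permutations. -/
noncomputable def perm (i : ℕ) (hi : i < 6) : Equiv.Perm GolayPt :=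
  Function.Involutive.toPerm (fun x => pt (pget (packs.getD i 0) (ix x))) (packs_invol i hi)

theorem perm_mem (i : ℕ) (hi : i < 6) : perm i hi ∈ Spor.M12 := by
  have hlt : ∀ j < 6, ∀ x : GolayPt, pget (packs.getD j 0) (ix x) < 24 := by decide +kernel
  have hrep : CfsgLib.Sporadic.Rep (perm i hi) (packs.getD i 0) := fun x =>
    (CfsgLib.Sporadic.ix_pt (hlt i hi x)).symm
  refine Subgroup.mem_inf.2 ⟨CfsgLib.Sporadic.mem_M24_of_rep hrep ?_, ?_⟩
  · have h : ∀ j < 6, forallLt 12 (fun k => inCode (mimg (packs.getD j 0) (basisMask k))) = true := by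
      decide +kernel
    exact h i hi
  · show perm i hi • Spor.squareDodecad = Spor.squareDodecad
    have h : ∀ j < 6, mimg (packs.getD j 0) stdD = stdD := by decide +kernel
    rw [CfsgLib.Sporadic.squareDodecad_eq, CfsgLib.Sporadic.smul_setOfMask hrep, h i hi]

/-- The generators of `M12`. -/
noncomputable def mTwelve : Gens ↥Spor.M12 :=
  ⟨⟨_, perm_mem 0 (by decide)⟩, ⟨_, perm_mem 1 (by decide)⟩, ⟨_, perm_mem 2 (by decide)⟩,
    ⟨_, perm_mem 3 (by decide)⟩, ⟨_, perm_mem 4 (by decide)⟩, ⟨_, perm_mem 5 (by decide)⟩⟩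

theorem mTwelve_rel : mTwelve.Rel := by
  constructor <;> decide +kernel

theorem mTwelve_triple : mTwelve.Triple true := by
  unfold Gens.Triple
  decide +kernel

theorem mTwelve_facts :
    let g := mTwelve
    let c := (g.Q * g.X) * (g.P * g.Y) * (g.X * g.Q) * (g.Y * g.P)
    ((g.X * g.R * g.X * g.U) ^ 5 = 1 ∧ g.X * g.R * g.X * g.U ≠ 1) ∧
    (¬ (g.P * g.Y * g.U) ^ 4 = 1 ∧ (g.P * g.Y * g.U) ^ 8 = 1) ∧
    ((g.Y * g.R * g.U) ^ 11 = 1 ∧ g.Y * g.R * g.U ≠ 1) ∧
    (g.Q * g.X) ^ 3 = 1 ∧ g.Q * g.X ≠ 1 ∧ (g.P * g.Y) ^ 3 = 1 ∧ g.P * g.Y ≠ 1 ∧ c ^ 3 = 1 ∧ c ≠ 1 ∧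
    (g.Q * g.X) * c = c * (g.Q * g.X) ∧ (g.P * g.Y) * c = c * (g.P * g.Y) ∧
    c ≠ g.Q * g.X ∧ c ≠ (g.Q * g.X) * (g.Q * g.X) ∧
    (g.P * g.Y) * (g.Q * g.X) ≠ (g.Q * g.X) * (g.P * g.Y) ∧
    (g.P * g.Y) * (g.Q * g.X) * (g.P * g.Y)⁻¹ = c⁻¹ * (g.Q * g.X) := by
  dsimp only
  decide +kernel

theorem letter_mem {G : Type*} [Group G] (g : Gens G) :
    g.P ∈ g.genAll ∧ g.Q ∈ g.genAll ∧ g.X ∈ g.genAll ∧ g.Y ∈ g.genAll ∧ g.R ∈ g.genAll ∧ g.U ∈ g.genAll :=
  ⟨Subgroup.subset_closure ⟨0, by decide, rfl⟩, Subgroup.subset_closure ⟨1, by decide, rfl⟩,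
    Subgroup.subset_closure ⟨2, by decide, rfl⟩, Subgroup.subset_closure ⟨3, by decide, rfl⟩,
    Subgroup.subset_closure ⟨4, by decide, rfl⟩, Subgroup.subset_closure ⟨5, by decide, rfl⟩⟩

theorem mTwelve_gen : mTwelve.genAll = ⊤ := by
  haveI := CfsgLib.Sporadic.sporM12_isSimple
  obtain ⟨hP, hQ, hX, hY, hR, hU⟩ := letter_mem mTwelve
  obtain ⟨⟨h5, h5'⟩, ⟨h8, h8'⟩, ⟨h11, h11'⟩, a3, a1, b3, b1, c3, c1, ac, bc, ca, ca', nab, conj⟩ := mTwelve_facts
  haveI : Fact (Nat.Prime 5) := ⟨by norm_num⟩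
  haveI : Fact (Nat.Prime 11) := ⟨by norm_num⟩
  haveI : Fact (Nat.Prime 2) := ⟨by norm_num⟩
  haveI : Fact (Nat.Prime 3) := ⟨by norm_num⟩
  have d5 : 5 ∣ Nat.card mTwelve.genAll := orderOf_eq_prime h5 h5' ▸
    Subgroup.orderOf_dvd_natCard _ (mul_mem (mul_mem (mul_mem hX hR) hX) hU)
  have d8 : 8 ∣ Nat.card mTwelve.genAll :=
    (show orderOf (mTwelve.P * mTwelve.Y * mTwelve.U) = 8 from orderOf_eq_prime_pow (p := 2) (n := 2) h8 h8') ▸
      Subgroup.orderOf_dvd_natCard _ (mul_mem (mul_mem hP hY) hU)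
  have d11 : 11 ∣ Nat.card mTwelve.genAll := orderOf_eq_prime h11 h11' ▸
    Subgroup.orderOf_dvd_natCard _ (mul_mem (mul_mem hY hR) hU)
  have d27 : 27 ∣ Nat.card mTwelve.genAll := dvd_of_heisenberg (mul_mem hQ hX) (mul_mem hP hY)
    (mul_mem (mul_mem (mul_mem (mul_mem hQ hX) (mul_mem hP hY)) (mul_mem hX hQ)) (mul_mem hY hP))
    (orderOf_eq_prime a3 a1) (orderOf_eq_prime b3 b1) (orderOf_eq_prime c3 c1) ac bc ⟨ca, ca'⟩ nab conj
  refine eq_top_of_dvd (d := 11880) (k := 8) ?_ ?_ (by norm_num) ?_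
  · exact Nat.Coprime.mul_dvd_of_dvd_of_dvd (m := 1080) (n := 11) (by norm_num)
      (Nat.Coprime.mul_dvd_of_dvd_of_dvd (m := 216) (n := 5) (by norm_num)
        (Nat.Coprime.mul_dvd_of_dvd_of_dvd (m := 8) (n := 27) (by norm_num) d8 d27) d5) d11
  · rw [CfsgLib.Sporadic.card_sporM12]
  · rw [CfsgLib.Sporadic.card_sporM12]; decide

/-- The six matrices. -/
def slThree : Gens (Matrix.SpecialLinearGroup (Fin 3) (ZMod 3)) :=
  ⟨⟨!![2, 0, 0; 0, 2, 0; 0, 0, 1], by decide +kernel⟩, ⟨!![1, 0, 0; 0, 2, 0; 0, 0, 2], by decide +kernel⟩,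
    ⟨!![1, 1, 0; 0, 2, 0; 0, 0, 2], by decide +kernel⟩, ⟨!![2, 0, 0; 0, 2, 2; 0, 0, 1], by decide +kernel⟩,
    ⟨!![0, 1, 0; 1, 0, 0; 0, 0, 2], by decide +kernel⟩, ⟨!![2, 0, 0; 0, 0, 1; 0, 1, 0], by decide +kernel⟩⟩

theorem slThree_rel : slThree.Rel := by
  constructor <;> decide +kernel

theorem slThree_triple : slThree.Triple false := by
  unfold Gens.Triple
  decide +kernel

theorem slThree_facts :
    let g := slThree
    let c := (g.Q * g.X) * (g.P * g.Y) * (g.X * g.Q) * (g.Y * g.P)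
    (¬ (g.P * g.Y * g.U) ^ 4 = 1 ∧ (g.P * g.Y * g.U) ^ 8 = 1) ∧
    ((g.X * g.R * g.U) ^ 13 = 1 ∧ g.X * g.R * g.U ≠ 1) ∧
    (g.Q * g.X) ^ 3 = 1 ∧ g.Q * g.X ≠ 1 ∧ (g.P * g.Y) ^ 3 = 1 ∧ g.P * g.Y ≠ 1 ∧ c ^ 3 = 1 ∧ c ≠ 1 ∧
    (g.Q * g.X) * c = c * (g.Q * g.X) ∧ (g.P * g.Y) * c = c * (g.P * g.Y) ∧
    c ≠ g.Q * g.X ∧ c ≠ (g.Q * g.X) * (g.Q * g.X) ∧
    (g.P * g.Y) * (g.Q * g.X) ≠ (g.Q * g.X) * (g.P * g.Y) ∧
    (g.P * g.Y) * (g.Q * g.X) * (g.P * g.Y)⁻¹ = c⁻¹ * (g.Q * g.X) := by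
  dsimp only
  decide +kernel

theorem exists_psl_model : ∃ m : Gens (Matrix.ProjectiveSpecialLinearGroup (Fin 3) (ZMod 3)),
    m.Rel ∧ m.Triple false ∧ m.genAll = ⊤ := by
  haveI : Fact (Nat.Prime 3) := ⟨Nat.prime_three⟩
  obtain ⟨ι⟩ := CfsgLib.Blocks.GLTwoThreeCentralizer.exists_SL_equiv_PSL
  refine ⟨slThree.map ι.toMonoidHom, slThree_rel.map _, slThree_triple.map _, ?_⟩
  haveI : IsSimpleGroup (Matrix.ProjectiveSpecialLinearGroup (Fin 3) (ZMod 3)) :=
    CfsgLib.Classical.isSimpleGroup_PSL (F := ZMod 3) le_rfl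
  haveI : IsSimpleGroup (Matrix.SpecialLinearGroup (Fin 3) (ZMod 3)) :=
    CfsgLib.Sporadic.isSimple_congr ι.symm inferInstance
  have htop : slThree.genAll = ⊤ := by
    obtain ⟨hP, hQ, hX, hY, hR, hU⟩ := letter_mem slThree
    obtain ⟨⟨h8, h8'⟩, ⟨h13, h13'⟩, a3, a1, b3, b1, c3, c1, ac, bc, ca, ca', nab, conj⟩ := slThree_facts
    haveI : Fact (Nat.Prime 13) := ⟨by norm_num⟩
    haveI : Fact (Nat.Prime 2) := ⟨by norm_num⟩
    have d8 : 8 ∣ Nat.card slThree.genAll :=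
      (show orderOf (slThree.P * slThree.Y * slThree.U) = 8 from orderOf_eq_prime_pow (p := 2) (n := 2) h8 h8') ▸
        Subgroup.orderOf_dvd_natCard _ (mul_mem (mul_mem hP hY) hU)
    have d13 : 13 ∣ Nat.card slThree.genAll := orderOf_eq_prime h13 h13' ▸
      Subgroup.orderOf_dvd_natCard _ (mul_mem (mul_mem hX hR) hU)
    have d27 : 27 ∣ Nat.card slThree.genAll := dvd_of_heisenberg (mul_mem hQ hX) (mul_mem hP hY)
      (mul_mem (mul_mem (mul_mem (mul_mem hQ hX) (mul_mem hP hY)) (mul_mem hX hQ)) (mul_mem hY hP))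
      (orderOf_eq_prime a3 a1) (orderOf_eq_prime b3 b1) (orderOf_eq_prime c3 c1) ac bc ⟨ca, ca'⟩ nab conj
    have hcard : Nat.card (Matrix.SpecialLinearGroup (Fin 3) (ZMod 3)) = 5616 := by
      rw [Nat.card_congr ι.toEquiv]; exact CfsgLib.Blocks.GLTwoThreeCentralizer.card_PSLThree
    refine eq_top_of_dvd (d := 2808) (k := 2) ?_ ?_ (by norm_num) ?_
    · exact Nat.Coprime.mul_dvd_of_dvd_of_dvd (m := 216) (n := 13) (by norm_num)
        (Nat.Coprime.mul_dvd_of_dvd_of_dvd (m := 8) (n := 27) (by norm_num) d8 d27) d13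
    · rw [hcard]
    · rw [hcard]; decide
  rw [← Gens.genAll_map, htop, ← MonoidHom.range_eq_map, MonoidHom.range_eq_top]
  exact ι.surjective

/-- The twisted relator gives `M12`. -/
theorem iso_mTwelve {G : Type*} [Group G] [Nontrivial G] {g : Gens G} (hg : g.Rel) (he : g.Triple true)
    (hgen : g.genAll = ⊤) : Spor.IsoM12 G := by
  haveI := CfsgLib.Sporadic.sporM12_isSimple
  exact Gens.nonempty_iso (n := 220 * 432) (fun k hk hk' => Gens.le_twoTwenty hk hk') hg he mTwelve_rel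
    mTwelve_triple hgen mTwelve_gen (by rw [CfsgLib.Sporadic.card_sporM12])

/-- The untwisted relator gives `PSL(3,3)`. -/
theorem iso_psl {G : Type*} [Group G] [Nontrivial G] {g : Gens G} (hg : g.Rel) (he : g.Triple false)
    (hgen : g.genAll = ⊤) : Nonempty (G ≃* Matrix.ProjectiveSpecialLinearGroup (Fin 3) (ZMod 3)) := by
  haveI : Fact (Nat.Prime 3) := ⟨Nat.prime_three⟩
  haveI : IsSimpleGroup (Matrix.ProjectiveSpecialLinearGroup (Fin 3) (ZMod 3)) :=
    CfsgLib.Classical.isSimpleGroup_PSL (F := ZMod 3) le_rfl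
  obtain ⟨m, hm, hme, hmg⟩ := exists_psl_model
  exact Gens.nonempty_iso (n := 13 * 432) (fun k hk hk' => Gens.le_thirteen hk hk') hg he hm hme hgen hmg
    (by rw [show Nat.card (Matrix.ProjectiveSpecialLinearGroup (Fin 3) (ZMod 3)) = 5616 from
      CfsgLib.Blocks.GLTwoThreeCentralizer.card_PSLThree])

end CfsgLib.Recog.AmalgamGLTwoThree
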