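import Cfsg.Agent.Lib.Recog.AmalgamGLTwoThree.Branch
import Cfsg.Agent.Lib.Recog.AmalgamGLTwoThree.Model
import Cfsg.Prelude.Def_Spor_Mathieu

/-!
# The groups generated by the amalgam
-/

set_option autoImplicit false

namespace CfsgLib.Recog.AmalgamGLTwoThree

variable {G : Type*} [Group G] [Finite G]

theorem card_pCore_quotient {A : Subgroup G} {N : Subgroup A} [N.Normal]
    (e : A ⧸ N ≃* GL (Fin 2) (ZMod 3)) (hN : Nat.card N = 9) : Nat.card A = 432 := by
  haveI : Fact (Nat.Prime 3) := ⟨Nat.prime_three⟩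
  have h := Subgroup.card_eq_card_quotient_mul_card_subgroup N
  rw [Nat.card_congr e.toEquiv, hN, Matrix.card_GL_field] at h
  rw [h]
  simp [Fin.prod_univ_two]

theorem side_of {A : Subgroup G} {N : Subgroup A} [hn : N.Normal] (hcA : Nat.card A = 432)
    (hO : IsMulCommutative N ∧ (∀ x ∈ N, x ^ 3 = 1) ∧ Nat.card N = 9 ∧
      Subgroup.centralizer ((N : Subgroup A) : Set A) = N) : Side A (N.map A.subtype) := by
  obtain ⟨hc, he, h9, hs⟩ := hO
  refine ⟨Subgroup.map_subtype_le N, hcA, ?_, ?_, ?_, ?_, ?_⟩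
  · rw [Subgroup.card_map_of_injective A.subtype_injective, h9]
  · rintro _ ⟨x, hx, rfl⟩ _ ⟨y, hy, rfl⟩
    have := hc.is_comm.comm (⟨x, hx⟩ : N) ⟨y, hy⟩
    exact congrArg (fun z : N => ((z : A) : G)) this
  · rintro _ ⟨x, hx, rfl⟩
    rw [← map_pow, he x hx, map_one]
  · intro g hg h
    refine ⟨⟨g, hg⟩, ?_, rfl⟩
    show (⟨g, hg⟩ : A) ∈ N
    rw [← hs, Subgroup.mem_centralizer_iff]
    exact fun x hx => Subtype.ext (h x ⟨x, hx, rfl⟩).symm
  · rintro g hg _ ⟨x, hx, rfl⟩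
    exact ⟨⟨g, hg⟩ * x * ⟨g, hg⟩⁻¹, hn.conj_mem x hx _, rfl⟩

theorem map_conj_eq {A V : Subgroup G} (S : Side A V) {g : G} (hg : g ∈ A) :
    V.map (MulAut.conj g).toMonoidHom = V := by
  refine Subgroup.eq_of_le_of_card_ge ?_ (le_of_eq (Subgroup.card_map_of_injective (MulAut.conj g).injective).symm)
  rintro _ ⟨x, hx, rfl⟩
  exact S.norm g hg x hx

theorem le_of_three_group {A V T : Subgroup G} (S : Side A V) (hT : T ≤ A) (hTc : Nat.card T = 27) : V ≤ T := by
  haveI : Fact (Nat.Prime 3) := ⟨Nat.prime_three⟩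
  have hTn : T ≤ Subgroup.normalizer (V : Set G) := fun t ht => Subgroup.mem_normalizer_iff.2 fun x =>
    ⟨fun hx => S.norm t (hT ht) x hx, fun hx => by
      have h := S.norm t⁻¹ (inv_mem (hT ht)) _ hx
      have e : t⁻¹ * (t * x * t⁻¹) * t⁻¹⁻¹ = x := by group
      rwa [e] at h⟩
  have hp : IsPGroup 3 ↥(V ⊔ T) := (IsPGroup.of_card (n := 2) (by rw [S.card_V]; norm_num)).to_sup_of_normal_left'
    (IsPGroup.of_card (n := 3) (by rw [hTc]; norm_num)) hTn
  obtain ⟨n, hn⟩ := IsPGroup.iff_card.1 hp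
  have hd := Subgroup.card_dvd_of_le (sup_le S.le hT)
  rw [S.card_A, hn] at hd
  have hn3 : n ≤ 3 := by
    by_contra hlt
    exact absurd ((pow_dvd_pow 3 (by omega : 4 ≤ n)).trans hd) (by norm_num)
  have heq : T = V ⊔ T := Subgroup.eq_of_le_of_card_ge le_sup_right (by
    rw [hn, hTc]
    exact (Nat.pow_le_pow_right (by norm_num) hn3).trans (by norm_num))
  rw [heq]
  exact le_sup_left

/-- The conclusion for the amalgam. -/
theorem classify (A B : Subgroup G) (hgen : A ⊔ B = ⊤) (hSylA : ¬ 3 ∣ ((A ⊓ B).subgroupOf A).index)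
    (hcore : ∀ N : Subgroup G, N ≤ A ⊓ B → (∀ a ∈ A, N.map (MulAut.conj a).toMonoidHom = N) →
      (∀ b ∈ B, N.map (MulAut.conj b).toMonoidHom = N) → N = ⊥)
    {V W : Subgroup G} (sA : Side A V) (sB : Side B W) (S : Sylow 3 ↥(A ⊓ B)) (Z : Subgroup G)
    (hZ : Z = ((S : Subgroup ↥(A ⊓ B)) ⊓
      Subgroup.centralizer ((S : Subgroup ↥(A ⊓ B)) : Set ↥(A ⊓ B))).map (A ⊓ B).subtype)
    (hNZ : Subgroup.normalizer (Z : Set G) ≤ A ⊓ B) :
    Cfsg.Spor.IsoM12 G ∨ Nonempty (G ≃* Matrix.ProjectiveSpecialLinearGroup (Fin 3) (ZMod 3)) := by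
  haveI : Fact (Nat.Prime 3) := ⟨Nat.prime_three⟩
  set T := (S : Subgroup ↥(A ⊓ B)).map (A ⊓ B).subtype with hT
  have hTle : T ≤ A ⊓ B := Subgroup.map_subtype_le _
  have hTc : Nat.card T = 27 := by
    rw [hT, Subgroup.card_map_of_injective (A ⊓ B).subtype_injective]
    have h := ((A ⊓ B).subgroupOf A).card_mul_index
    rw [Nat.card_congr (Subgroup.subgroupOfEquivOfLe inf_le_left).toEquiv, sA.card_A] at h
    have h27 : 3 ^ 3 ∣ Nat.card ↥(A ⊓ B) :=
      (Nat.Coprime.pow_left 3 (Nat.prime_three.coprime_iff_not_dvd.2 hSylA)).dvd_of_dvd_mul_right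
        (by rw [h]; norm_num)
    have h1 := S.pow_dvd_card_of_pow_dvd_card h27
    obtain ⟨n, hn⟩ := IsPGroup.iff_card.1 S.isPGroup'
    have hd : Nat.card ↥(S : Subgroup ↥(A ⊓ B)) ∣ 432 :=
      h ▸ (Subgroup.card_subgroup_dvd_card _).trans (Dvd.intro _ rfl)
    rw [hn] at hd h1 ⊢
    have h3 : n = 3 := by
      refine le_antisymm ?_ ((Nat.pow_dvd_pow_iff_le_right (by norm_num)).1 h1)
      by_contra hlt
      exact absurd ((pow_dvd_pow 3 (by omega : 4 ≤ n)).trans hd) (by norm_num)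
    rw [h3]; norm_num
  have hVT : V ≤ T := le_of_three_group sA (hTle.trans inf_le_left) hTc
  have hWT : W ≤ T := le_of_three_group sB (hTle.trans inf_le_right) hTc
  have hne : V ≠ W := by
    intro h
    have h0 := hcore V (hVT.trans hTle) (fun a ha => map_conj_eq sA ha) (fun b hb => h ▸ map_conj_eq sB hb)
    have := sA.card_V
    rw [h0, Subgroup.card_bot] at this
    norm_num at this
  have h3 : Nat.card ↥(V ⊓ W) = 3 := by
    have hd : Nat.card ↥(V ⊓ W) ∣ 3 ^ 2 := by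
      rw [show (3 : ℕ) ^ 2 = Nat.card V by rw [sA.card_V]; norm_num]
      exact Subgroup.card_dvd_of_le inf_le_left
    obtain ⟨k, hk, hk'⟩ := (Nat.dvd_prime_pow Nat.prime_three).1 hd
    interval_cases k
    · exfalso
      rw [pow_zero] at hk'
      have hbot : V ⊓ W = ⊥ := Subgroup.card_eq_one.1 hk'
      let f : V × W → T := fun p => ⟨p.1 * p.2, mul_mem (hVT p.1.2) (hWT p.2.2)⟩
      have hf : Function.Injective f := by
        rintro ⟨a, b⟩ ⟨a', b'⟩ h
        have h' : (a : G) * b = a' * b' := congrArg Subtype.val h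
        have e : (a' : G)⁻¹ * a = b' * (b : G)⁻¹ := by
          calc (a' : G)⁻¹ * a = (a' : G)⁻¹ * (a * b) * (b : G)⁻¹ := by group
            _ = _ := by rw [h']; group
        have hm : (a' : G)⁻¹ * a ∈ V ⊓ W :=
          Subgroup.mem_inf.2 ⟨mul_mem (inv_mem a'.2) a.2, e ▸ mul_mem b'.2 (inv_mem b.2)⟩
        rw [hbot, Subgroup.mem_bot] at hm
        have ha : a = a' := Subtype.ext (inv_mul_eq_one.1 hm).symm
        subst ha
        exact Prod.ext rfl (Subtype.ext (mul_left_cancel h'))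
      have := Nat.card_le_card_of_injective f hf
      rw [Nat.card_prod, sA.card_V, sB.card_V, hTc] at this
      norm_num at this
    · rw [hk', pow_one]
    · exfalso
      have hV := Subgroup.eq_of_le_of_card_ge (show V ⊓ W ≤ V from inf_le_left) (by
        rw [sA.card_V, hk']; norm_num)
      exact hne (Subgroup.eq_of_le_of_card_ge (hV ▸ inf_le_right) (by rw [sA.card_V, sB.card_V]))
  have hsup : T = V ⊔ W := by
    refine (Subgroup.eq_of_le_of_card_ge (sup_le hVT hWT) ?_).symm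
    obtain ⟨k, hk, hk'⟩ := (Nat.dvd_prime_pow Nat.prime_three).1
      (show Nat.card ↥(V ⊔ W) ∣ 3 ^ 3 by
        rw [show (3 : ℕ) ^ 3 = Nat.card T by rw [hTc]; norm_num]
        exact Subgroup.card_dvd_of_le (sup_le hVT hWT))
    have h9 : 9 ≤ Nat.card ↥(V ⊔ W) := sA.card_V ▸
      Nat.card_le_card_of_injective _ (Subgroup.inclusion_injective (le_sup_left : V ≤ V ⊔ W))
    interval_cases k
    · omega
    · omega
    · exfalso
      have hV := Subgroup.eq_of_le_of_card_ge (le_sup_left : V ≤ V ⊔ W) (by rw [sA.card_V, hk']; norm_num)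
      exact hne (Subgroup.eq_of_le_of_card_ge (show W ≤ V from hV ▸ le_sup_right)
        (by rw [sA.card_V, sB.card_V])).symm
    · rw [hTc, hk']; norm_num
  have hZeq : Z = V ⊓ W := by
    rw [hZ]
    refine le_antisymm ?_ fun x hx => ?_
    · rintro _ ⟨x, ⟨hxS, hxC⟩, rfl⟩
      have hcm : ∀ y ∈ T, (x : G) * y = y * x := by
        rintro _ ⟨y, hy, rfl⟩
        exact (congrArg Subtype.val (Subgroup.mem_centralizer_iff.1 hxC y hy)).symm
      exact Subgroup.mem_inf.2 ⟨sA.self _ x.2.1 fun y hy => hcm y (hVT hy),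
        sB.self _ x.2.2 fun y hy => hcm y (hWT hy)⟩
    · obtain ⟨x', hx', rfl⟩ := hVT hx.1
      refine ⟨x', ⟨hx', Subgroup.mem_centralizer_iff.2 fun y hy => Subtype.ext ?_⟩, rfl⟩
      have hle : T ≤ Subgroup.centralizer ({((x' : ↥(A ⊓ B)) : G)} : Set G) := by
        rw [hsup]
        exact sup_le (fun v hv => Subgroup.mem_centralizer_singleton_iff.2 (sA.comm _ hv _ hx.1))
          (fun v hv => Subgroup.mem_centralizer_singleton_iff.2 (sB.comm _ hv _ hx.2))
      exact Subgroup.mem_centralizer_singleton_iff.1 (hle ⟨y, hy, rfl⟩)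
  have Sg : Setting A B V W Z :=
    ⟨sA, sB, hVT.trans (hTle.trans inf_le_right), hWT.trans (hTle.trans inf_le_left), hZeq, hZeq ▸ h3, hNZ⟩
  obtain ⟨g, F⟩ := Sg.exists_frame
  have htop : g.genAll = ⊤ := top_le_iff.1 (hgen ▸ F.le_gen)
  haveI : Nontrivial G := ⟨⟨g.P, 1, F.P_ne⟩⟩
  rcases F.cases with ⟨e, he⟩ | hle
  · cases e
    · exact Or.inr (iso_psl F.rel he htop)
    · exact Or.inl (iso_mTwelve F.rel he htop)
  · exfalso
    rw [htop, Subgroup.card_top] at hle
    have hA : A = ⊤ := Subgroup.eq_top_of_card_eq A (le_antisymm (A.card_le_card_group) (sA.card_A ▸ hle))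
    have hB : B = ⊤ := Subgroup.eq_top_of_card_eq B (le_antisymm (B.card_le_card_group) (sB.card_A ▸ hle))
    have h0 := hcore V (le_inf sA.le (hB ▸ le_top)) (fun a ha => map_conj_eq sA ha)
      (fun b hb => map_conj_eq sA (hA ▸ Subgroup.mem_top b))
    have := sA.card_V
    rw [h0, Subgroup.card_bot] at this
    norm_num at this

end CfsgLib.Recog.AmalgamGLTwoThree
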