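import Mathlib

/-!
# A group of order `432` acting faithfully on its normal subgroup of order `9`
-/

set_option autoImplicit false

namespace CfsgLib.Recog.AmalgamGLTwoThree

variable {G : Type*} [Group G]

/-- `V` is a self-centralizing elementary abelian normal subgroup of order nine of `A`, of index `48`. -/
structure Side (A V : Subgroup G) : Prop where
  le : V ≤ A
  card_A : Nat.card A = 432
  card_V : Nat.card V = 9
  comm : ∀ x ∈ V, ∀ y ∈ V, x * y = y * x
  pow : ∀ x ∈ V, x ^ 3 = 1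
  self : ∀ g ∈ A, (∀ x ∈ V, g * x = x * g) → g ∈ V
  norm : ∀ g ∈ A, ∀ x ∈ V, g * x * g⁻¹ ∈ V

/-- Coordinates. -/
abbrev Vec : Type := ZMod 3 × ZMod 3

/-- A linear map given by the images of the two basis vectors. -/
abbrev Lin : Type := Vec × Vec

/-- Evaluation of a linear map. -/
def Lin.app (M : Lin) (z : Vec) : Vec :=
  (z.1 * M.1.1 + z.2 * M.2.1, z.1 * M.1.2 + z.2 * M.2.2)

/-- Composition. -/
def Lin.comp (M N : Lin) : Lin := (M.app N.1, M.app N.2)

theorem zmod_three_cases : ∀ q : ZMod 3, q ≠ 0 → q = 1 ∨ q = -1 := by decide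

/-- Two elements of `V` read as coordinates. -/
def ev (u v : G) (z : Vec) : G := u ^ z.1.val * v ^ z.2.val

namespace Side

variable {A V : Subgroup G} (S : Side A V)

include S

theorem cube {x : G} (hx : x ∈ V) : x * x * x = 1 := by
  rw [← S.pow x hx, pow_three, mul_assoc]

theorem orderOf_three {x : G} (hx : x ∈ V) (h1 : x ≠ 1) : orderOf x = 3 := by
  haveI : Fact (Nat.Prime 3) := ⟨Nat.prime_three⟩
  exact orderOf_eq_prime (S.pow x hx) h1

theorem eq_one_of_sq {x : G} (hx : x ∈ V) (h : x * x = 1) : x = 1 := by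
  have := S.cube hx
  rwa [h, one_mul] at this

theorem pow_mod {x : G} (hx : x ∈ V) (n : ℕ) : x ^ (n % 3) = x ^ n := by
  conv_rhs => rw [← Nat.mod_add_div n 3, pow_add, pow_mul, S.pow x hx, one_pow, mul_one]

end Side

/-- A basis of `V` and an involution of `A` inverting `V`. -/
structure Basis (A V : Subgroup G) (u v p : G) : Prop where
  side : Side A V
  hu : u ∈ V
  hv : v ∈ V
  hu1 : u ≠ 1
  hvu : v ∉ Subgroup.zpowers u
  hp : p ∈ A
  hp2 : p * p = 1
  hinv : ∀ x ∈ V, p * x * p⁻¹ = x⁻¹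

/-- `g` acts on the basis by `M`. -/
def Acts (u v g : G) (M : Lin) : Prop := g * u * g⁻¹ = ev u v M.1 ∧ g * v * g⁻¹ = ev u v M.2

/-- Independent pairs generate. -/
theorem Side.ev_injective {A V : Subgroup G} (S : Side A V) {u v : G} (hu : u ∈ V) (hv : v ∈ V) (hu1 : u ≠ 1)
    (hvu : v ∉ Subgroup.zpowers u) : Function.Injective (ev u v) := by
  rintro ⟨i, j⟩ ⟨i', j'⟩ h
  have h' : u ^ i.val * v ^ j.val = u ^ i'.val * v ^ j'.val := h
  have hj : j = j' := by
    by_contra hne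
    have key : (v ^ j'.val)⁻¹ * v ^ j.val ∈ Subgroup.zpowers u := by
      have e : (v ^ j'.val)⁻¹ * v ^ j.val = (u ^ i.val)⁻¹ * u ^ i'.val := by
        rw [S.comm (u ^ i.val) (pow_mem hu _) (v ^ j.val) (pow_mem hv _),
          S.comm (u ^ i'.val) (pow_mem hu _) (v ^ j'.val) (pow_mem hv _)] at h'
        calc (v ^ j'.val)⁻¹ * v ^ j.val = (v ^ j'.val)⁻¹ * (v ^ j.val * u ^ i.val) * (u ^ i.val)⁻¹ := by group
          _ = u ^ i'.val * (u ^ i.val)⁻¹ := by rw [h']; group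
          _ = _ := S.comm _ (pow_mem hu _) _ (inv_mem (pow_mem hu _))
      rw [e]
      exact mul_mem (inv_mem (Subgroup.npow_mem_zpowers u _)) (Subgroup.npow_mem_zpowers u _)
    rw [← zpow_natCast, ← zpow_natCast, ← zpow_neg, ← zpow_add] at key
    set k : ℤ := -(j'.val : ℤ) + (j.val : ℤ) with hk
    have hk3 : ¬ (3 : ℤ) ∣ k := fun hd => hne (ZMod.val_injective 3 (by
      have := j.val_lt; have := j'.val_lt; omega))
    obtain ⟨r, s, hrs⟩ : IsCoprime k 3 :=
      Int.isCoprime_iff_gcd_eq_one.2 (by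
        have : Int.gcd k 3 ∣ 3 := by exact_mod_cast Int.gcd_dvd_right k 3
        rcases (Nat.dvd_prime Nat.prime_three).1 this with h1 | h1
        · exact h1
        · exact absurd (by have := Int.gcd_dvd_left k 3; rw [h1] at this; exact_mod_cast this) hk3)
    refine hvu ?_
    have hv1 : v = (v ^ k) ^ r := by
      rw [← zpow_mul]
      calc v = v ^ (r * k + s * 3) := by rw [hrs, zpow_one]
        _ = v ^ (k * r) := by
          rw [zpow_add, mul_comm s, zpow_mul v 3 s,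
            show v ^ (3 : ℤ) = 1 by rw [show (3 : ℤ) = ((3 : ℕ) : ℤ) from rfl, zpow_natCast, S.pow v hv],
            one_zpow, mul_one, mul_comm r]
    rw [hv1]
    exact zpow_mem key r
  subst hj
  have hi : u ^ i.val = u ^ i'.val := mul_right_cancel h'
  refine Prod.ext (ZMod.val_injective 3 ?_) rfl
  exact pow_injOn_Iio_orderOf (show i.val < orderOf u by rw [S.orderOf_three hu hu1]; exact i.val_lt)
    (show i'.val < orderOf u by rw [S.orderOf_three hu hu1]; exact i'.val_lt) hi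

theorem Side.ev_mem {A V : Subgroup G} (_S : Side A V) {u v : G} (hu : u ∈ V) (hv : v ∈ V) (z : Vec) :
    ev u v z ∈ V :=
  mul_mem (pow_mem hu _) (pow_mem hv _)

theorem Side.ev_surjective {A V : Subgroup G} (S : Side A V) {u v : G} (hu : u ∈ V) (hv : v ∈ V) (hu1 : u ≠ 1)
    (hvu : v ∉ Subgroup.zpowers u) {x : G} (hx : x ∈ V) : ∃ z, ev u v z = x := by
  haveI : Finite V := Nat.finite_of_card_ne_zero (by rw [S.card_V]; norm_num)
  have hb : Function.Bijective (fun z => (⟨ev u v z, S.ev_mem hu hv z⟩ : V)) :=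
    (Nat.bijective_iff_injective_and_card _).2
      ⟨fun a b h => S.ev_injective hu hv hu1 hvu (congrArg Subtype.val h), by simp [S.card_V]⟩
  obtain ⟨z, hz⟩ := hb.2 ⟨x, hx⟩
  exact ⟨z, congrArg Subtype.val hz⟩

theorem Side.mem_of_fix {A V : Subgroup G} (S : Side A V) {u v : G} (hu : u ∈ V) (hv : v ∈ V) (hu1 : u ≠ 1)
    (hvu : v ∉ Subgroup.zpowers u) {g : G} (hg : g ∈ A) (h1 : g * u = u * g) (h2 : g * v = v * g) : g ∈ V :=
  S.self g hg fun x hx => by
    obtain ⟨z, rfl⟩ := S.ev_surjective hu hv hu1 hvu hx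
    exact ((show Commute g u from h1).pow_right _).mul_right ((show Commute g v from h2).pow_right _)

/-- Every change of basis is induced by `A`. -/
theorem Side.exists_map {A V : Subgroup G} (S : Side A V) {u v u' v' : G} (hu : u ∈ V) (hv : v ∈ V) (hu1 : u ≠ 1)
    (hvu : v ∉ Subgroup.zpowers u) (hu' : u' ∈ V) (hv' : v' ∈ V) (hu1' : u' ≠ 1)
    (hvu' : v' ∉ Subgroup.zpowers u') : ∃ g ∈ A, g * u * g⁻¹ = u' ∧ g * v * g⁻¹ = v' := by
  classical
  haveI : Finite V := Nat.finite_of_card_ne_zero (by rw [S.card_V]; norm_num)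
  haveI : Finite A := Nat.finite_of_card_ne_zero (by rw [S.card_A]; norm_num)
  have := Fintype.ofFinite V
  let T := Σ x : {x : V // x ≠ 1}, {y : V // y ∉ Subgroup.zpowers x.1}
  have hT : Nat.card T = 48 := by
    rw [Nat.card_sigma]
    have h6 : ∀ x : {x : V // x ≠ 1}, Nat.card {y : V // y ∉ Subgroup.zpowers x.1} = 6 := by
      intro x
      rw [Nat.card_eq_fintype_card, Fintype.card_subtype_compl, ← Nat.card_eq_fintype_card (α := V), S.card_V,
        ← Nat.card_eq_fintype_card, show Nat.card {y : V // y ∈ Subgroup.zpowers x.1} = 3 from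
          (Nat.card_zpowers x.1).trans (by
            rw [← Subgroup.orderOf_coe]; exact S.orderOf_three x.1.2 fun h => x.2 (Subtype.ext h))]
    simp only [h6, Finset.sum_const, Finset.card_univ, smul_eq_mul]
    rw [Fintype.card_subtype_compl, ← Nat.card_eq_fintype_card (α := V), S.card_V, Fintype.card_subtype_eq]
  have hind : ∀ g ∈ A, g * u * g⁻¹ ≠ 1 ∧ g * v * g⁻¹ ∉ Subgroup.zpowers (g * u * g⁻¹) := fun g _ => by
    refine ⟨fun h => hu1 (conj_eq_one_iff.1 h), fun h => hvu ?_⟩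
    obtain ⟨k, hk⟩ := Subgroup.mem_zpowers_iff.1 h
    rw [conj_zpow] at hk
    exact Subgroup.mem_zpowers_iff.2 ⟨k, mul_left_cancel (mul_right_cancel hk)⟩
  let W : Subgroup A := V.subgroupOf A
  let act : A → T := fun g => ⟨⟨⟨g.1 * u * g.1⁻¹, S.norm _ g.2 _ hu⟩, fun h => (hind _ g.2).1 (congrArg Subtype.val h)⟩,
    ⟨⟨g.1 * v * g.1⁻¹, S.norm _ g.2 _ hv⟩, fun h => (hind _ g.2).2 (by
      obtain ⟨k, hk⟩ := Subgroup.mem_zpowers_iff.1 h
      exact Subgroup.mem_zpowers_iff.2 ⟨k, (by simpa using congrArg Subtype.val hk)⟩)⟩⟩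
  let f : A ⧸ W → T := fun q => act q.out
  have hf : Function.Injective f := by
    intro q q' h
    have h1 : (q.out : G) * u * (q.out : G)⁻¹ = (q'.out : G) * u * (q'.out : G)⁻¹ :=
      congrArg (fun t : T => (t.1.1 : G)) h
    have h2 : (q.out : G) * v * (q.out : G)⁻¹ = (q'.out : G) * v * (q'.out : G)⁻¹ :=
      congrArg (fun t : T => (t.2.1 : G)) h
    have key : ∀ {w : G}, (q.out : G) * w * (q.out : G)⁻¹ = (q'.out : G) * w * (q'.out : G)⁻¹ →
        ((q.out⁻¹ * q'.out : A) : G) * w = w * ((q.out⁻¹ * q'.out : A) : G) := fun {w} hw => by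
      rw [Subgroup.coe_mul, Subgroup.coe_inv]
      calc (q.out : G)⁻¹ * (q'.out : G) * w
          = (q.out : G)⁻¹ * ((q'.out : G) * w * (q'.out : G)⁻¹) * (q'.out : G) := by group
        _ = _ := by rw [← hw]; group
    rw [← QuotientGroup.out_eq' q, ← QuotientGroup.out_eq' q', QuotientGroup.eq]
    exact Subgroup.mem_subgroupOf.2 (S.mem_of_fix hu hv hu1 hvu (q.out⁻¹ * q'.out).2 (key h1) (key h2))
  have hq : Nat.card (A ⧸ W) = 48 := by
    have h := W.card_mul_index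
    rw [Nat.card_congr (Subgroup.subgroupOfEquivOfLe S.le).toEquiv, S.card_V, S.card_A] at h
    rw [← Subgroup.index]; omega
  obtain ⟨q, hq'⟩ := ((Nat.bijective_iff_injective_and_card f).2 ⟨hf, hq.trans hT.symm⟩).2
    ⟨⟨⟨u', hu'⟩, fun h => hu1' (congrArg Subtype.val h)⟩, ⟨⟨v', hv'⟩, fun h => hvu' (by
      obtain ⟨k, hk⟩ := Subgroup.mem_zpowers_iff.1 h
      exact Subgroup.mem_zpowers_iff.2 ⟨k, by simpa using congrArg Subtype.val hk⟩)⟩⟩
  exact ⟨q.out, q.out.2, congrArg (fun t : T => (t.1.1 : G)) hq', congrArg (fun t : T => (t.2.1 : G)) hq'⟩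

/-- An involution of `A` inverts `V`. -/
theorem Side.exists_invert {A V : Subgroup G} (S : Side A V) {u v : G} (hu : u ∈ V) (hv : v ∈ V) (hu1 : u ≠ 1)
    (hvu : v ∉ Subgroup.zpowers u) : ∃ p ∈ A, p * p = 1 ∧ ∀ x ∈ V, p * x * p⁻¹ = x⁻¹ := by
  obtain ⟨g, hg, h1, h2⟩ := S.exists_map hu hv hu1 hvu (inv_mem hu) (inv_mem hv) (inv_ne_one.2 hu1) (by
    rwa [Subgroup.zpowers_inv, inv_mem_iff])
  have hinv : ∀ x ∈ V, g * x * g⁻¹ = x⁻¹ := by
    intro x hx
    obtain ⟨z, rfl⟩ := S.ev_surjective hu hv hu1 hvu hx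
    rw [ev, ← conj_mul, ← conj_pow, ← conj_pow, h1, h2, inv_pow, inv_pow, _root_.mul_inv_rev,
      S.comm _ (inv_mem (pow_mem hu _)) _ (inv_mem (pow_mem hv _))]
  have h2' : ∀ x ∈ V, g * g * x = x * (g * g) := by
    intro x hx
    have e : g * g * x * (g * g)⁻¹ = x := by
      calc g * g * x * (g * g)⁻¹ = g * (g * x * g⁻¹) * g⁻¹ := by group
        _ = x := by rw [hinv x hx, hinv _ (inv_mem hx), inv_inv]
    exact mul_inv_eq_iff_eq_mul.1 e
  have hgg : g * g ∈ V := S.self _ (mul_mem hg hg) h2'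
  refine ⟨g * g * g, mul_mem (mul_mem hg hg) hg, ?_, fun x hx => ?_⟩
  · calc g * g * g * (g * g * g) = g * g * (g * g) * (g * g) := by group
      _ = 1 := S.cube hgg
  · calc g * g * g * x * (g * g * g)⁻¹ = g * g * (g * x * g⁻¹) * (g * g)⁻¹ := by group
      _ = x⁻¹ := by rw [hinv x hx, h2' _ (inv_mem hx), mul_inv_cancel_right]

namespace Basis

variable {A V : Subgroup G} {u v p : G} (B : Basis A V u v p)

include B

theorem mem (z : Vec) : ev u v z ∈ V := B.side.ev_mem B.hu B.hv z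

theorem inj {z z' : Vec} (h : ev u v z = ev u v z') : z = z' := B.side.ev_injective B.hu B.hv B.hu1 B.hvu h

theorem surj {x : G} (hx : x ∈ V) : ∃ z, ev u v z = x := B.side.ev_surjective B.hu B.hv B.hu1 B.hvu hx

theorem ev_zero : ev u v (0, 0) = 1 := by simp [ev]

theorem ev_fst : ev u v (1, 0) = u := by simp [ev, ZMod.val_one]

theorem ev_snd : ev u v (0, 1) = v := by simp [ev, ZMod.val_one]

theorem ev_add (z w : Vec) : ev u v (z + w) = ev u v z * ev u v w := by
  simp only [ev, Prod.fst_add, Prod.snd_add, ZMod.val_add, B.side.pow_mod B.hu, B.side.pow_mod B.hv, pow_add]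
  rw [show u ^ z.1.val * u ^ w.1.val * (v ^ z.2.val * v ^ w.2.val) =
    u ^ z.1.val * (u ^ w.1.val * v ^ z.2.val) * v ^ w.2.val by group,
    B.side.comm _ (pow_mem B.hu _) _ (pow_mem B.hv _)]
  group

theorem ev_neg (z : Vec) : ev u v (-z) = (ev u v z)⁻¹ :=
  eq_inv_of_mul_eq_one_left (by rw [← B.ev_add, neg_add_cancel]; exact B.ev_zero)

theorem ev_pow (z : Vec) (n : ℕ) : ev u v z ^ n = ev u v (((n : ZMod 3) * z.1, (n : ZMod 3) * z.2)) := by
  induction n with
  | zero => simpa using B.ev_zero.symm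
  | succ n ih =>
    rw [pow_succ, ih, ← B.ev_add]
    congr 1
    ext <;> push_cast <;> simp [add_mul]

theorem acts_ev {g : G} {M : Lin} (h : Acts u v g M) (z : Vec) : g * ev u v z * g⁻¹ = ev u v (M.app z) := by
  rw [ev, ← conj_mul, ← conj_pow, ← conj_pow, h.1, h.2, B.ev_pow, B.ev_pow, ← B.ev_add]
  congr 1
  ext <;> simp [Lin.app, ZMod.natCast_zmod_val]

theorem acts_mul {g k : G} {M N : Lin} (hg : Acts u v g M) (hk : Acts u v k N) :
    Acts u v (g * k) (M.comp N) := by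
  constructor
  · rw [show g * k * u * (g * k)⁻¹ = g * (k * u * k⁻¹) * g⁻¹ by group, hk.1, B.acts_ev hg]; rfl
  · rw [show g * k * v * (g * k)⁻¹ = g * (k * v * k⁻¹) * g⁻¹ by group, hk.2, B.acts_ev hg]; rfl

theorem acts_inv {g : G} {M N : Lin} (hg : Acts u v g M) (h : M.comp N = ((1, 0), (0, 1))) :
    Acts u v g⁻¹ N := by
  have h1 := congrArg Prod.fst h
  have h2 := congrArg Prod.snd h
  simp only [Lin.comp] at h1 h2
  constructor
  · rw [inv_inv]
    nth_rw 1 [← B.ev_fst]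
    rw [← h1, ← B.acts_ev hg]; group
  · rw [inv_inv]
    nth_rw 1 [← B.ev_snd]
    rw [← h2, ← B.acts_ev hg]; group

theorem acts_p : Acts u v p ((-1, 0), (0, -1)) := by
  constructor
  · rw [B.hinv _ B.hu, show ((-1, 0) : Vec) = -(1, 0) by simp, B.ev_neg, B.ev_fst]
  · rw [B.hinv _ B.hv, show ((0, -1) : Vec) = -(0, 1) by simp, B.ev_neg, B.ev_snd]

theorem pinv : p⁻¹ = p := inv_eq_of_mul_eq_one_right B.hp2

theorem eq_one_of_comm {x : G} (hx : x ∈ V) (h : p * x = x * p) : x = 1 := by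
  have h1 := B.hinv x hx
  rw [h, mul_inv_cancel_right] at h1
  exact B.side.eq_one_of_sq hx (by nth_rw 2 [h1]; exact mul_inv_cancel x)

/-- An element of the complement fixing the basis is trivial. -/
theorem eq_one {g : G} (hg : g ∈ A) (hgp : p * g = g * p) (h : Acts u v g ((1, 0), (0, 1))) : g = 1 := by
  refine B.eq_one_of_comm (B.side.mem_of_fix B.hu B.hv B.hu1 B.hvu hg ?_ ?_) hgp
  · exact mul_inv_eq_iff_eq_mul.1 (h.1.trans B.ev_fst)
  · exact mul_inv_eq_iff_eq_mul.1 (h.2.trans B.ev_snd)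

/-- An element of the complement inverting the basis is `p`. -/
theorem eq_p {g : G} (hg : g ∈ A) (hgp : p * g = g * p) (h : Acts u v g ((-1, 0), (0, -1))) : g = p := by
  have h1 := B.eq_one (mul_mem hg B.hp) (by rw [← mul_assoc, hgp]) (by
    have := B.acts_mul h B.acts_p
    rwa [show Lin.comp ((-1, 0), (0, -1)) ((-1, 0), (0, -1)) = (((1, 0), (0, 1)) : Lin) by decide] at this)
  rw [eq_inv_of_mul_eq_one_left h1, B.pinv]

/-- An element of the complement with a prescribed action. -/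
theorem exists_acts (M : Lin) (h1 : M.1 ≠ (0, 0))
    (h2 : ∀ k : ZMod 3, (k * M.1.1, k * M.1.2) ≠ M.2) : ∃ g ∈ A, p * g = g * p ∧ Acts u v g M := by
  have hu' : ev u v M.1 ≠ 1 := fun h => h1 (B.inj (h.trans B.ev_zero.symm))
  have hv' : ev u v M.2 ∉ Subgroup.zpowers (ev u v M.1) := fun h => by
    haveI : Finite V := Nat.finite_of_card_ne_zero (by rw [B.side.card_V]; norm_num)
    have hfin : IsOfFinOrder (ev u v M.1) := orderOf_pos_iff.1 (by
      rw [B.side.orderOf_three (B.mem _) hu']; norm_num)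
    obtain ⟨k, hk⟩ := (hfin.mem_powers_iff_mem_zpowers).2 h
    exact h2 (k : ZMod 3) (B.inj ((B.ev_pow M.1 k).symm.trans hk))
  obtain ⟨g, hg, hgu, hgv⟩ := B.side.exists_map B.hu B.hv B.hu1 B.hvu (B.mem _) (B.mem _) hu' hv'
  have hw : p * g * p * g⁻¹ ∈ V := by
    refine B.side.self _ (mul_mem (mul_mem (mul_mem B.hp hg) B.hp) (inv_mem hg)) fun x hx => ?_
    refine mul_inv_eq_iff_eq_mul.1 ?_
    calc p * g * p * g⁻¹ * x * (p * g * p * g⁻¹)⁻¹
        = p * (g * (p * (g⁻¹ * x * g) * p⁻¹) * g⁻¹) * p⁻¹ := by group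
      _ = x := by
        have hx' : g⁻¹ * x * g ∈ V := by simpa using B.side.norm g⁻¹ (inv_mem hg) x hx
        rw [B.hinv _ hx', show g * (g⁻¹ * x * g)⁻¹ * g⁻¹ = x⁻¹ by group, B.hinv _ (inv_mem hx), inv_inv]
  set w := p * g * p * g⁻¹ with hwdef
  have hpw : p * w * p⁻¹ = w⁻¹ := B.hinv _ hw
  have hfix : ∀ x ∈ V, w⁻¹ * g * x * (w⁻¹ * g)⁻¹ = g * x * g⁻¹ := fun x hx => by
    rw [show w⁻¹ * g * x * (w⁻¹ * g)⁻¹ = w⁻¹ * (g * x * g⁻¹) * w by group,
      B.side.comm _ (inv_mem hw) _ (B.side.norm _ hg _ hx), inv_mul_cancel_right]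
  refine ⟨w⁻¹ * g, mul_mem (inv_mem (B.side.le hw)) hg, ?_, ?_⟩
  · have e1 : p * g = w * g * p := by
      calc p * g = p * g * p * g⁻¹ * g * p⁻¹ := by group
        _ = w * g * p := by rw [← hwdef, B.pinv]
    have e2 : p * w⁻¹ = w * p := by
      calc p * w⁻¹ = p * w⁻¹ * p⁻¹ * p := by group
        _ = w * p := by rw [B.hinv _ (inv_mem hw), inv_inv]
    have e3 : w * w = w⁻¹ := eq_inv_of_mul_eq_one_left (B.side.cube hw)
    calc p * (w⁻¹ * g) = w * (p * g) := by rw [← mul_assoc, e2, mul_assoc]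
      _ = w⁻¹ * g * p := by rw [e1, show w * (w * g * p) = w * w * g * p by group, e3]
  · exact ⟨(hfix u B.hu).trans hgu, (hfix v B.hv).trans hgv⟩

/-- A subgroup with shears, a sign change and a swap contains `A`. -/
theorem le_of_gens {K : Subgroup G} (hu : u ∈ K) (hv : v ∈ K) (hp : p ∈ K) {s r t : G} (hs : s ∈ K) (hr : r ∈ K)
    (ht : t ∈ K) (hsA : s ∈ A) (hrA : r ∈ A) (htA : t ∈ A) {e : ZMod 3} (he : e ≠ 0)
    (as : Acts u v s ((1, 0), (e, 1))) (ar : Acts u v r ((0, -1), (-1, 0)))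
    (at' : Acts u v t ((-1, 0), (0, 1))) : A ≤ K := by
  have hspow : ∀ k : ℕ, Acts u v (s ^ k) ((1, 0), ((k : ZMod 3) * e, 1)) := by
    intro k
    induction k with
    | zero => exact ⟨by simp [B.ev_fst], by simp [B.ev_snd]⟩
    | succ k ih =>
      rw [pow_succ]
      convert B.acts_mul ih as using 1
      ext <;> simp [Lin.comp, Lin.app] <;> push_cast <;> ring
  have hk : ∀ q : ZMod 3, ∃ k : ℕ, (k : ZMod 3) * e = q := fun q =>
    ⟨(q * e⁻¹).val, by
      haveI : Fact (Nat.Prime 3) := ⟨Nat.prime_three⟩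
      rw [ZMod.natCast_zmod_val, inv_mul_cancel_right₀ he]⟩
  have huk : ∀ g ∈ A, g * u * g⁻¹ = u → g ∈ K := by
    intro g hg hgu
    obtain ⟨⟨q1, q2⟩, hq⟩ := B.surj (B.side.norm g hg v B.hv)
    have hg' : Acts u v g ((1, 0), (q1, q2)) := ⟨hgu.trans B.ev_fst.symm, hq.symm⟩
    suffices h : ∃ m ∈ K, m ∈ A ∧ Acts u v m ((1, 0), (q1, q2)) by
      obtain ⟨m, hmK, hmA, hm⟩ := h
      have hmg : m⁻¹ * g ∈ V := by
        refine B.side.mem_of_fix B.hu B.hv B.hu1 B.hvu (mul_mem (inv_mem hmA) hg) ?_ ?_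
        · refine mul_inv_eq_iff_eq_mul.1 ?_
          calc m⁻¹ * g * u * (m⁻¹ * g)⁻¹ = m⁻¹ * (g * u * g⁻¹) * m := by group
            _ = u := by rw [hg'.1, ← hm.1]; group
        · refine mul_inv_eq_iff_eq_mul.1 ?_
          calc m⁻¹ * g * v * (m⁻¹ * g)⁻¹ = m⁻¹ * (g * v * g⁻¹) * m := by group
            _ = v := by rw [hg'.2, ← hm.2]; group
      obtain ⟨z, hz⟩ := B.surj hmg
      have : g = m * ev u v z := by rw [hz]; group
      rw [this]
      exact mul_mem hmK (mul_mem (pow_mem hu _) (pow_mem hv _))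
    have hq2 : q2 ≠ 0 := by
      rintro rfl
      refine B.hvu ?_
      have h1 : v = g⁻¹ * ev u v (q1, 0) * g := by rw [← hg'.2]; group
      rw [h1]
      have h2 : ev u v (q1, 0) = g * u ^ q1.val * g⁻¹ := by rw [← conj_pow, hgu]; simp [ev]
      rw [h2, show g⁻¹ * (g * u ^ q1.val * g⁻¹) * g = u ^ q1.val by group]
      exact Subgroup.npow_mem_zpowers u _
    obtain ⟨k, hk'⟩ := hk q1
    have hcases : q2 = 1 ∨ q2 = -1 := zmod_three_cases q2 hq2
    rcases hcases with rfl | rfl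
    · exact ⟨s ^ k, pow_mem hs k, pow_mem hsA k, by rw [← hk']; exact hspow k⟩
    · obtain ⟨k', hk''⟩ := hk (-q1)
      refine ⟨s ^ k' * (p * t), mul_mem (pow_mem hs k') (mul_mem hp ht),
        mul_mem (pow_mem hsA k') (mul_mem B.hp htA), ?_⟩
      convert B.acts_mul (hspow k') (B.acts_mul B.acts_p at') using 1
      ext <;> simp [Lin.comp, Lin.app, hk'']
  intro g hg
  obtain ⟨⟨q1, q2⟩, hq⟩ := B.surj (B.side.norm g hg u B.hu)
  have hne : (q1, q2) ≠ ((0, 0) : Vec) := fun h => by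
    rw [h, B.ev_zero] at hq
    exact B.hu1 (conj_eq_one_iff.1 hq.symm)
  suffices h : ∃ m ∈ K, m ∈ A ∧ m * u * m⁻¹ = ev u v (q1, q2) by
    obtain ⟨m, hmK, hmA, hm⟩ := h
    have h1 := huk (m⁻¹ * g) (mul_mem (inv_mem hmA) hg) (by
      calc m⁻¹ * g * u * (m⁻¹ * g)⁻¹ = m⁻¹ * (g * u * g⁻¹) * m := by group
        _ = u := by rw [← hq, ← hm]; group)
    simpa using mul_mem hmK h1
  by_cases h0 : q2 = 0
  · subst h0
    have hcases : q1 = 1 ∨ q1 = -1 := zmod_three_cases q1 fun h => hne (by rw [h])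
    rcases hcases with rfl | rfl
    · exact ⟨1, one_mem _, one_mem _, by simp [B.ev_fst]⟩
    · exact ⟨p, hp, B.hp, B.acts_p.1⟩
  · have hcases : q2 = 1 ∨ q2 = -1 := zmod_three_cases q2 h0
    rcases hcases with rfl | rfl
    · obtain ⟨k, hk'⟩ := hk q1
      refine ⟨s ^ k * (p * r), mul_mem (pow_mem hs k) (mul_mem hp hr),
        mul_mem (pow_mem hsA k) (mul_mem B.hp hrA), ?_⟩
      rw [(B.acts_mul (hspow k) (B.acts_mul B.acts_p ar)).1]
      congr 1
      ext <;> simp [Lin.comp, Lin.app, hk']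
    · obtain ⟨k, hk'⟩ := hk (-q1)
      refine ⟨s ^ k * r, mul_mem (pow_mem hs k) hr, mul_mem (pow_mem hsA k) hrA, ?_⟩
      rw [(B.acts_mul (hspow k) ar).1]
      congr 1
      ext <;> simp [Lin.comp, Lin.app, hk']

end Basis

end CfsgLib.Recog.AmalgamGLTwoThree
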